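import Mathlib
import Cfsg.Agent.Spor.X23.DCert

/-! Extensions of `M23` by the cocode module: the values of the relators. -/

set_option autoImplicit false

namespace Cfsg.Agent.Spor.X23

open Cfsg.Agent.Spor Cfsg.Agent.Spor.Golay Cfsg.Agent.Spor.MX Finset

universe u

/-- The words that are zero in the cocode module. -/
def D0 (w : Wd) : Prop := w ∈ golayCode ∨ w + Pi.single none 1 ∈ golayCode

theorem dot_code {y : ℕ} (hy : isCode y = true) {w : Wd} (hw : w ∈ golayCode) : dot y w = 0 := by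
  rw [dot_eq]
  exact golay_orth _ ((maskWord_mem_iff y).2 hy) _ hw

theorem dot_single (y : ℕ) : dot y (Pi.single none 1) = if y.testBit 23 then 1 else 0 := by
  rw [dot_eq, sum_eq_single none]
  · rw [Pi.single_eq_same, mul_one]
    rfl
  · intro b _ hb
    simp [hb]
  · simp

theorem dot_D0 {y : ℕ} (hy : isCode y = true) (h23 : y.testBit 23 = false) {w : Wd} (hw : D0 w) : dot y w = 0 := by
  rcases hw with hw | hw
  · exact dot_code hy hw
  · have := dot_code hy hw
    rwa [dot_add, dot_single, h23, if_neg (by simp), add_zero] at this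

theorem D0_of_dot {w : Wd} (h : ∀ b < 12, dot (c11t.get b) w = 0) : D0 w := by
  have h1 : ∀ b < 12, (c11t.get b).testBit 23 = false ∧
      (gbMask b = c11t.get b ∨ gbMask b = c11t.get b ^^^ 16777215) := by decide +kernel
  have h2 : ∀ c : ZMod 2, c = dot 16777215 w → w + c • Pi.single none 1 ∈ golayCode := fun c hc => by
    refine (mem_golay_iff _).2 fun i => ?_
    have h3 : dot (c11t.get i) (w + c • Pi.single none 1) = 0 := by
      rw [dot_add, dot_smul, dot_single, (h1 i i.2).1, h i i.2]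
      simp
    have h4 : dot 16777215 (w + c • Pi.single none 1) = 0 := by
      rw [dot_add, dot_smul, dot_single, if_pos (by decide), mul_one, hc, CharTwo.add_self_eq_zero]
    refine (dot_eq _ _).symm.trans ?_
    rcases (h1 i i.2).2 with h5 | h5
    · rw [h5, h3]
    · rw [h5, dot_xor, h3, h4, add_zero]
  have h3 : ∀ c : ZMod 2, c = 0 ∨ c = 1 := by decide
  rcases h3 (dot 16777215 w) with h4 | h4
  · left
    simpa using h2 0 h4.symm
  · right
    simpa using h2 1 h4.symm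

theorem ev_sel (u : ℕ → ZMod 2) (z s : ℕ) (p : GolayPt) :
    ev u (Bool.rec s 0 (Nat.beq (bitN z (ptIdx p)) 0)) = (ev u s • maskWord z) p := by
  rw [bitN_eq, Pi.smul_apply, maskWord]
  cases z.testBit (ptIdx p)
  · simpa using ev_zero u
  · exact (one_smul (ZMod 2) _).symm.trans (mul_comm _ _)

variable {E : Type u} [Group E] {π : E →* Spor.M23} {κ : E → Wd → Prop} {g0 : ℕ → Spor.M23}

theorem exists_L_D (X : Ext π κ) (hk : ∀ w, κ 1 w → D0 w) (hS : Tabs ptOf 24 m23w_S g0 4)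
    (hrel : ∀ i, evalW g0 (m23_rels.get i) = 1) :
    ∃ L : Subgroup (E × Z2), (∀ c, ((1 : E), c) ∈ L → c = 1) ∧
      (∀ m w, κ m w → (m, Multiplicative.ofAdd (dot (dC.Y 0) w)) ∈ L) ∧
      ∀ i, ∃ e c, (e, c) ∈ L ∧ π e = evalW g0 (dC.subs.get i) := by
  obtain ⟨Q, _, ρ, h1, h2, h3, -, h5⟩ := exists_central X (y := dC.Y 0)
    fun w hw => dot_D0 (by decide +kernel) (by decide +kernel) (hk w hw)
  let up : Spor.M23 ≃* ULift.{u} Spor.M23 := MulEquiv.ulift.symm
  have h6 : ∀ i, evalW (fun x => up (g0 x)) (m23_rels.get i) = 1 := fun i => by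
    rw [← map_one up, ← hrel i]
    exact (map_evalW up.toMonoidHom _ _).symm
  have h7 : ∀ x < 3, imgB (m23w_S x) (dC.Y 0) (dC.Y 0) = true :=
    (allLt_iff 3 fun x => imgB (m23w_S x) (dC.Y 0) (dC.Y 0)).1 (by decide +kernel)
  have h8 : ∀ z, z ∈ (up.toMonoidHom.comp ρ).ker ↔ z ∈ ρ.ker := fun z => by simp [MonoidHom.mem_ker]
  obtain ⟨g', h9, h10⟩ := (m11_l8 (m23_low h6)).of_dvd (q' := 2) (by norm_num) Q (up.toMonoidHom.comp ρ)
    (fun x hx => by
      obtain ⟨q, hq⟩ := h1 (mem_stabY (hS x (by omega)) (h7 x hx))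
      exact ⟨q, congrArg up hq⟩)
    (fun z hz => h2 ((h8 z).1 hz)) fun z hz => h3 z ((h8 z).1 hz)
  have h11 : (genLt g' 3).map ρ = genLt g0 3 := map_genLt' ρ fun x hx => up.injective (h9 x hx)
  obtain ⟨a, -, ha⟩ := m11_gen
  have := Dod.simple_SporM11
  have : IsSimpleGroup (⊤ : Subgroup Spor.M11) := Subgroup.topEquiv.isSimpleGroup
  have h12 := (ha.of_simple (m11_bnd (wp_rels _)) (m23_low hrel) (x := 0) (by norm_num) (by
    simpa using hS.ne_one PC.ptOf_injOn (w := [0]) (by decide +kernel) (i := 0) (by norm_num)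
      (by decide +kernel))).2.2
  obtain ⟨L, b1, b2, b3⟩ := h5 _ (inf_ker_of_card ρ h10 (by rw [h11, h12]))
  refine ⟨L, b1, b2, fun i => ?_⟩
  have h13 : evalW g0 (dC.subs.get i) ∈ (genLt g' 3).map ρ :=
    h11 ▸ evalW_mem_genLt g0 (LT.all_get (t := dC.subs) (f := lettersLt 3) (by decide +kernel) i)
  obtain ⟨k, h14, h15⟩ := h13
  exact h15 ▸ b3 k h14

theorem lifts_D (X : Ext π κ) (tot : ∀ w, ∃ m, κ m w) (hk : ∀ w, κ 1 w ↔ D0 w) (hS : Tabs ptOf 24 m23w_S g0 4)
    (hrel : ∀ i, evalW g0 (m23_rels.get i) = 1) :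
    ∃ g : ℕ → E, (∀ x, π (g x) = g0 x) ∧
      ∃ c : ZMod 2, ∀ i < 16, κ (evalW g (m23_rels.get i)) (c • maskWord (dZ.get i)) := by
  obtain ⟨L, h1, h2, h3⟩ := exists_L_D X (fun w => (hk w).1) hS hrel
  obtain ⟨g, u, h4, h5, h6⟩ := core X hS hrel h1 h2 h3 (by decide +kernel) dC_nodes
  choose n hn using fun x => tot fun p => ev u (dAf x (ptIdx p))
  refine ⟨fun x => n x * g x, fun x => by rw [map_mul, X.ker _ _ (hn x), one_mul, h4], ev u dS, fun i hi => ?_⟩
  rcases i with _ | i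
  · have : maskWord (dZ.get 0) = 0 := maskWord_zero
    rw [this, smul_zero]
    exact X.one
  have h7 := fox_rel X hS h4 (fun x _ => hn x) (i + 1) (B := fun q => Nat.shiftLeft 1 (Nat.add (Nat.mul 24 (i + 1)) q))
    (by
      convert h5 _ hi using 1
      funext p
      have := ptIdx_lt p
      exact ev_bit u (show 24 * (i + 1) + ptIdx p < 512 by omega))
  have h8 : D0 fun p => ev u (tgt dAf (dZ.get (i + 1)) dS (i + 1) (ptIdx p)) := D0_of_dot fun b hb => by
    have h9 := (allLt_iff _ _).1 dC_span i (by omega)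
    simp only [force_eq] at h9
    rw [dot_ev, (nbeq_iff _ _).1 ((allLt_iff _ _).1 h9 b hb), ev_xorM]
    exact sum_eq_zero fun k hk => by
      rw [show dC_R.get k = dC.R.get k from rfl, h6 k (dC_close k (mem_range.1 hk)), ite_self]
  have h9 := X.mul _ _ _ _ h7 ((hk _).2 h8)
  rw [mul_one] at h9
  convert h9 using 1
  funext p
  rw [Pi.add_apply, tgt, ev_xor _ (Nat.xor _ _), ev_sel, ← add_assoc, CharTwo.add_self_eq_zero, zero_add]

theorem nonsplit_D (X : Ext π κ) (hk : ∀ w, κ 1 w → D0 w) (hS : Tabs ptOf 24 m23w_S g0 4) {g : ℕ → E}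
    (hg : ∀ x, π (g x) = g0 x) (h : ∀ i < 16, κ (evalW g (m23_rels.get i)) (maskWord (dZ.get i)))
    (H : Subgroup E) (h1 : H ⊓ π.ker = ⊥) : H ⊔ π.ker ≠ ⊤ := by
  intro h2
  have h3 : ∀ x, ∃ n, π n = 1 ∧ n * g x ∈ H := fun x => by
    obtain ⟨a, ha, b, hb, hab⟩ := Subgroup.mem_sup_of_normal_right.1 (h2 ▸ Subgroup.mem_top (g x))
    refine ⟨a * (g x)⁻¹, ?_, by simpa using ha⟩
    rw [← hab, map_mul, map_inv, map_mul, MonoidHom.mem_ker.1 hb, mul_one, mul_inv_cancel]
  choose n h4 h5 using h3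
  choose a ha using fun x => X.ex _ (h4 x)
  let u : ℕ → ZMod 2 := fun b => if b < 96 then a (b / 24) (ptOf (b % 24)) else 1
  have h6 : ev u (Nat.shiftLeft 1 96) = 1 := ev_bit u (by norm_num)
  have h7 : ∀ i < 16, ev u (xorM (tgn i) (dY.get i) 24) = 0 := fun i hi => by
    have h8 := fox_rel X hS hg (n := n) (u := u) (A := fun x p => Nat.shiftLeft 1 (Nat.add (Nat.mul 24 x) p))
      (fun x hx => by
        convert ha x using 1
        funext p
        have := ptIdx_lt p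
        rw [Nat.add_eq, Nat.mul_eq, ev_bit u (by omega)]
        simp only [u]
        rw [if_pos (by omega), show (24 * x + ptIdx p) / 24 = x by omega,
          show (24 * x + ptIdx p) % 24 = ptIdx p by omega, ptOf_ptIdx]) i
      (B := fun q => Bool.rec (Nat.shiftLeft 1 96) 0 (Nat.beq (bitN (dZ.get i) q) 0)) (by
        convert h i hi using 1
        funext p
        rw [ev_sel, h6, one_smul])
    have h9 : evalW (fun x => n x * g x) (m23_rels.get i) ∈ (⊥ : Subgroup E) :=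
      h1 ▸ ⟨evalW_mem fun x _ => h5 x, X.ker _ _ h8⟩
    rw [Subgroup.mem_bot.1 h9] at h8
    have h10 : ∀ i < 16, isCode (dY.get i) = true ∧ (dY.get i).testBit 23 = false := by decide +kernel
    rw [← dot_ev]
    exact dot_D0 (h10 i hi).1 (h10 i hi).2 (hk _ h8)
  have h8 := congrArg (ev u) ((nbeq_iff _ _).1 dC_incons)
  rw [h6, ev_xorM, sum_eq_zero fun i hi => by rw [h7 i (mem_range.1 hi), ite_self]] at h8
  exact zero_ne_one h8

/-- The data of the statements give an extension. -/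
theorem ext_theta (N : Subgroup E) [N.Normal] (φ : E ⧸ N ≃* Spor.M23) (θ : Wd →+ Additive N)
    (hsurj : Function.Surjective θ)
    (hθ : ∀ (g : E) (w : Wd), ((θ (w ∘ ⇑(((φ (QuotientGroup.mk g) : Spor.M23) : Equiv.Perm GolayPt)⁻¹))).toMul : E)
      = g * ((θ w).toMul : E) * g⁻¹) :
    Ext (φ.toMonoidHom.comp (QuotientGroup.mk' N)) fun m w => ((θ w).toMul : E) = m where
  surj := φ.surjective.comp (QuotientGroup.mk'_surjective N)
  ker := by
    rintro _ w rfl
    simp
  ex := fun m hm => by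
    have h1 : m ∈ N := by simpa using hm
    obtain ⟨w, hw⟩ := hsurj (Additive.ofMul ⟨m, h1⟩)
    exact ⟨w, by rw [hw]; rfl⟩
  mul := by
    rintro _ w _ w' rfl rfl
    simp
  one := by simp
  zero := by
    rintro _ rfl
    simp
  conj := by
    rintro g _ w rfl
    exact hθ g w

theorem ker_phi (N : Subgroup E) [N.Normal] (φ : E ⧸ N ≃* Spor.M23) :
    (φ.toMonoidHom.comp (QuotientGroup.mk' N)).ker = N := by
  ext m
  simp

theorem lifts_nonsplit (X : Ext π κ) (tot : ∀ w, ∃ m, κ m w) (hk : ∀ w, κ 1 w ↔ D0 w)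
    (hS : Tabs ptOf 24 m23w_S g0 4) (hG : Gen ⊤ g0 m23_rels 4 10200960)
    (hns : ∀ H : Subgroup E, H ⊓ π.ker = ⊥ → H ⊔ π.ker ≠ ⊤) :
    ∃ g : ℕ → E, (∀ x, π (g x) = g0 x) ∧ ∀ i < 16, κ (evalW g (m23_rels.get i)) (maskWord (dZ.get i)) := by
  obtain ⟨g, h1, c, h2⟩ := lifts_D X tot hk hS hG.2.1
  have h3 : ∀ c : ZMod 2, c = 0 ∨ c = 1 := by decide
  rcases h3 c with rfl | rfl
  · obtain ⟨H, h4, h5⟩ := compl_of_rels hG.1 (fun x _ => h1 x) fun i hi => X.zero _ (by simpa using h2 i hi)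
    exact absurd h5 (hns H h4)
  · exact ⟨g, h1, fun i hi => by simpa using h2 i hi⟩

end Cfsg.Agent.Spor.X23
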