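import Mathlib
import Cfsg.Agent.Spor.X23.CCert
import Cfsg.Agent.Spor.X23.Dm
import Cfsg.Agent.Sym.Present

/-! Extensions of `M23` by the code module split. -/

set_option autoImplicit false

namespace Cfsg.Agent.Spor.X23

open Cfsg.Agent.Spor Cfsg.Agent.Spor.Golay Cfsg.Agent.Spor.MX Finset

universe u

theorem eq_of_tab24 {a b : Spor.M23} {f f' : ℕ → ℕ} (h1 : Tab ptOf 24 f a) (h2 : Tab ptOf 24 f' b)
    (h : ∀ q < 24, f q = f' q) : a = b := by
  refine Subtype.ext (Equiv.ext fun x => ?_)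
  have h3 := (h1 _ (ptIdx_lt x)).2
  have h4 := (h2 _ (ptIdx_lt x)).2
  rw [← h _ (ptIdx_lt x), ptOf_ptIdx] at h4
  rw [ptOf_ptIdx] at h3
  exact h3.trans h4.symm

theorem tab_mul {a b : Spor.M23} {f f' : ℕ → ℕ} (h1 : Tab ptOf 24 f a) (h2 : Tab ptOf 24 f' b) :
    Tab ptOf 24 (fun q => f (f' q)) (a * b) := fun q hq =>
  ⟨(h1 _ (h2 q hq).1).1, by rw [mul_smul, (h2 q hq).2, (h1 _ (h2 q hq).1).2]⟩

theorem tab_one : Tab ptOf 24 (fun q => q) (1 : Spor.M23) := fun _ hq => ⟨hq, one_smul _ _⟩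

theorem dot_two_pow {p : ℕ} (hp : p < 24) (w : Wd) : dot (2 ^ p) w = w (ptOf p) := by
  unfold dot
  rw [sum_eq_single p]
  · simp
  · intro i _ hi
    simp [Nat.testBit_two_pow_of_ne (Ne.symm hi)]
  · intro hb
    exact absurd (mem_range.2 hp) hb

theorem testBit_of_bitN {Y p : ℕ} (h : bitN Y p = 1) : Y.testBit p = true := by
  rw [bitN_eq] at h
  cases h1 : Y.testBit p
  · simp [h1] at h
  · rfl

/-- The table `ft` is an involution fixing the octad `O`, and `fc` commutes with it and is transitive on the points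
of `O` other than `23`. -/
noncomputable def invB (ft fc : ℕ → ℕ) (O p : ℕ) : Bool :=
  band (isCode O) <| band (Nat.beq (popc (O &&& 8388607) % 2) 1) <| band (Nat.beq (bitN O p) 1) <|
    allLt 24 fun q => band (Nat.beq (ft (fc q)) (fc (ft q))) <| band (Nat.beq (ft (ft q)) q) <|
      bor (Nat.beq (bitN O q) 0) <| band (Nat.beq (ft q) q) <| band (Nat.beq (bitN O (fc q)) 1) <|
        bor (Nat.beq q 23) (!allLt 7 fun k => !Nat.beq (Nat.rec p (fun _ ih => fc ih) k) q)

variable {E : Type u} [Group E] {π : E →* Spor.M23} {κ : E → Wd → Prop} {g0 : ℕ → Spor.M23}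

theorem invol (X : Ext π κ) (hC : ∀ m w, κ m w → w ∈ golayCode ∧ w none = 0)
    (hinj : ∀ m w w', κ m w → κ m w' → w = w') {t c : Spor.M23} {ft fc : ℕ → ℕ} (ht : Tab ptOf 24 ft t)
    (hc : Tab ptOf 24 fc c) {O p : ℕ} (hp : p < 24) (h : invB ft fc O p = true) :
    t * t = 1 ∧ ∀ e w, π e = t → κ (e * e) w → w (ptOf p) = 0 := by
  unfold invB at h
  simp only [band_iff, bor_iff, allLt_iff, nbeq_iff] at h
  obtain ⟨h1, h2, h3, h4⟩ := h
  refine ⟨eq_of_tab24 (tab_mul ht ht) tab_one fun q hq => (h4 q hq).2.1, fun e w he hw => ?_⟩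
  have h5 : t * c = c * t := eq_of_tab24 (tab_mul ht hc) (tab_mul hc ht) fun q hq => (h4 q hq).1
  obtain ⟨d, rfl⟩ := X.surj c
  obtain ⟨v, hv⟩ := X.ex (d * e * d⁻¹ * e⁻¹) (by
    rw [map_mul, map_mul, map_mul, map_inv, map_inv, he, ← h5, mul_inv_cancel_right, mul_inv_cancel])
  have h6 := hinj _ _ _ (X.conj d _ _ hw) (by
    convert X.mul _ _ _ _ (X.mul _ _ _ _ hv (X.conj e _ _ hv)) hw using 1
    group)
  have h7 : ∀ q < 24, bitN O q = 1 → ft q = q ∧ bitN O (fc q) = 1 ∧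
      (q = 23 ∨ ∃ k, Nat.rec p (fun _ ih => fc ih) k = q) := fun q hq h8 => by
    obtain ⟨a1, a2, a3⟩ := (h4 q hq).2.2.resolve_left (by omega)
    refine ⟨a1, a2, a3.imp_right fun a4 => ?_⟩
    by_contra hn
    have : allLt 7 (fun k => !Nat.beq (Nat.rec p (fun _ ih => fc ih) k) q) = true := (allLt_iff _ _).2 fun k _ => by
      cases a5 : Nat.beq (Nat.rec p (fun _ ih => fc ih) k) q with
      | false => rfl
      | true => exact absurd ⟨k, (nbeq_iff _ _).1 a5⟩ hn
    simp [this] at a4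
  have h8 : ∀ q < 24, bitN O q = 1 → w (ptOf (fc q)) = w (ptOf q) := fun q hq h9 => by
    obtain ⟨a1, a2⟩ := hc q hq
    have a3 := (ht _ a1).2
    rw [(h7 _ a1 (h7 q hq h9).2.1).1] at a3
    have a4 : (π e : Equiv.Perm GolayPt)⁻¹ (ptOf (fc q)) = ptOf (fc q) := by
      rw [Equiv.Perm.inv_eq_iff_eq, he]
      exact a3.symm
    have a5 : (π d : Equiv.Perm GolayPt)⁻¹ (ptOf (fc q)) = ptOf q := by
      rw [Equiv.Perm.inv_eq_iff_eq]
      exact a2.symm
    have a6 := congrFun h6 (ptOf (fc q))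
    simp only [Pi.add_apply, Function.comp_apply, a4, a5, CharTwo.add_self_eq_zero, zero_add] at a6
    exact a6.symm
  have h9 : ∀ k : ℕ, (Nat.rec p (fun _ ih => fc ih) k : ℕ) < 24 ∧ bitN O (Nat.rec p (fun _ ih => fc ih) k) = 1 ∧
      w (ptOf (Nat.rec p (fun _ ih => fc ih) k)) = w (ptOf p) := fun k => by
    induction k with
    | zero => exact ⟨hp, h3, rfl⟩
    | succ k ih => exact ⟨(hc _ ih.1).1, (h7 _ ih.1 ih.2.1).2.1, (h8 _ ih.1 ih.2.1).trans ih.2.2⟩
  have h10 : dot O w = dot O (w (ptOf p) • maskWord 8388607) := by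
    unfold dot
    refine sum_congr rfl fun q hq => ?_
    have hq' := mem_range.1 hq
    cases a1 : O.testBit q
    · simp
    · have a2 : bitN O q = 1 := by rw [bitN_eq, a1]; rfl
      rcases (h7 q hq' a2).2.2 with rfl | ⟨k, rfl⟩
      · have : ptOf 23 = none := rfl
        simp [this, (hC _ _ hw).2, maskWord, ptIdx, show Nat.testBit 8388607 23 = false by decide]
      · by_cases a3 : (Nat.rec p (fun _ ih => fc ih) k : ℕ) = 23
        · have : ptOf 23 = none := rfl
          simp [a3, this, (hC _ _ hw).2, maskWord, ptIdx, show Nat.testBit 8388607 23 = false by decide]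
        · have a4 : ∀ q < 24, q ≠ 23 → Nat.testBit 8388607 q = true := by decide
          simp [maskWord, ptIdx_ptOf hq', a4 _ hq' a3, (h9 k).2.2]
  rw [dot_code h1 (hC _ _ hw).1, dot_smul, dot_eq, dot_maskWord, ← ZMod.natCast_mod, h2] at h10
  simpa using h10.symm

theorem exists_L_C (X : Ext π κ) (hC : ∀ m w, κ m w → w ∈ golayCode ∧ w none = 0)
    (hinj : ∀ m w w', κ m w → κ m w' → w = w') (hS : Tabs ptOf 24 m23w_S g0 4) :
    ∃ L : Subgroup (E × Z2), (∀ c, ((1 : E), c) ∈ L → c = 1) ∧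
      (∀ m w, κ m w → (m, Multiplicative.ofAdd (dot (cC.Y 0) w)) ∈ L) ∧
      ∀ i, ∃ e c, (e, c) ∈ L ∧ π e = evalW g0 (cC.subs.get i) := by
  have hY : cC.Y 0 = 2 ^ 16 := by decide +kernel
  obtain ⟨Q, _, ρ, h1, h2, h3, h4, h5⟩ := exists_central X (y := cC.Y 0)
    fun w hw => by rw [hinj _ _ _ hw X.one, dot_zero]
  obtain ⟨x, hx⟩ := PC.exists_tabs (H := Spor.M23) (t := cX) (m := 30) fun x hx =>
    PC.inH_M23 ((allLt_iff _ fun x => PC.isM23 (cX.get x)).1 (by decide +kernel) x hx)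
  have h6 : ∀ i < 5, band (imgB (tabS cX 5 31 i) (cC.Y 0) (cC.Y 0)) (band
      (allLt 24 fun q => Nat.beq (traceP (tabS cX 5 31) [i, i, i] q) q) (allLt 5 fun j => bor (Nat.beq i j)
        (invB (fun q => tabS cX 5 31 i (tabS cX 5 31 j q)) (tabS cX 5 31 (5 + 5 * i + j)) (cO.get (5 * i + j)) 16))) =
      true := (allLt_iff _ _).1 (by decide +kernel)
  simp only [band_iff, allLt_iff, bor_iff, nbeq_iff] at h6
  have h7 : ∀ i, ∃ q, i < 5 → ρ q = x i ∧ q ^ 3 = 1 := fun i => by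
    by_cases hi : i < 5
    · obtain ⟨q, hq⟩ := h1 (mem_stabY (hx i (by omega)) (h6 i hi).1)
      have a1 : x i ^ 3 = 1 := by
        have := eq_of_tab24 (tab_evalW (w := [i, i, i]) fun y hy => hx y (by simp at hy; omega)) tab_one (h6 i hi).2.1
        simpa [pow_succ, mul_assoc] using this
      refine ⟨q ^ 4, fun _ => ⟨by rw [map_pow, hq, pow_succ, a1, one_mul], ?_⟩⟩
      rw [← pow_mul, show 4 * 3 = 3 * 2 * 2 by norm_num, pow_mul, pow_mul,
        h3 (q ^ 3) (by rw [MonoidHom.mem_ker, map_pow, hq, a1]), one_pow]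
    · exact ⟨1, fun h => absurd h hi⟩
  choose q hq using h7
  have lt5 : ∀ i : Fin 7, i ≠ 5 → i ≠ 6 → (i : ℕ) < 5 := by decide
  obtain ⟨f, hf⟩ := Sym.exists_hom_of_carmichael (α := Fin 7) (a := 5) (b := 6) (by decide) (fun i => q i)
    (fun i a1 a2 => (hq i (lt5 i a1 a2)).2) fun i j a1 a2 a3 a4 a5 => by
      have b1 := lt5 i a1 a2
      have b2 := lt5 j a3 a4
      have b3 := invol X hC hinj (tab_mul (hx i (by omega)) (hx j (by omega))) (hx (5 + 5 * i + j) (by omega))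
        (by norm_num) (((h6 i b1).2.2 j b2).resolve_left fun h => a5 (Fin.ext h))
      have b4 : ρ (q i * q j) = x i * x j := by rw [map_mul, (hq i b1).1, (hq j b2).1]
      rw [pow_two]
      refine h4 _ (by rw [b4, b3.1]) fun e w b5 b6 => ?_
      rw [hY, dot_two_pow (by norm_num)]
      exact b3.2 e w (b5.trans b4) b6
  have h8 : ∀ i < 5, q i ∈ f.range := fun i hi => ⟨_, hf ⟨i, by omega⟩
    (fun h => by have := congrArg Fin.val h; simp at this; omega)
    (fun h => by have := congrArg Fin.val h; simp at this; omega)⟩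
  have : IsSimpleGroup (alternatingGroup (Fin 7)) := alternatingGroup.isSimpleGroup (by simp)
  have h9 : (ρ.comp f).ker = ⊥ := by
    refine (MonoidHom.normal_ker _).eq_bot_or_eq_top.resolve_right fun h => ?_
    obtain ⟨a, ha⟩ := h8 0 (by norm_num)
    have a1 : ρ (f a) = 1 := (h ▸ Subgroup.mem_top a : a ∈ (ρ.comp f).ker)
    rw [ha, (hq 0 (by norm_num)).1] at a1
    have a2 := hx.ne_one PC.ptOf_injOn (w := [0]) (by decide +kernel) (i := 0) (by norm_num) (by decide +kernel)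
    exact a2 (by simpa using a1)
  obtain ⟨L, b1, b2, b3⟩ := h5 f.range (by
    rw [eq_bot_iff]
    rintro _ ⟨⟨a, rfl⟩, a1⟩
    have : a ∈ (⊥ : Subgroup _) := h9 ▸ (a1 : a ∈ (ρ.comp f).ker)
    rw [Subgroup.mem_bot.1 this, map_one]
    exact Subgroup.one_mem _)
  refine ⟨L, b1, b2, fun i => ?_⟩
  have h10 := LT.all_get (t := cC.subs) (f := fun w => band (lettersLt 4 w) !allLt 20 fun j =>
    !allLt 24 fun p => Nat.beq (traceP (tabS cX 5 31) (cSubx.get j) p) (traceP m23w_S w p)) (by decide +kernel) i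
  rw [band_iff] at h10
  obtain ⟨j, hj⟩ : ∃ j, allLt 24 (fun p => Nat.beq (traceP (tabS cX 5 31) (cSubx.get j) p)
      (traceP m23w_S (cC.subs.get i) p)) = true := by
    by_contra hn
    have : allLt 20 (fun j => !allLt 24 fun p => Nat.beq (traceP (tabS cX 5 31) (cSubx.get j) p)
        (traceP m23w_S (cC.subs.get i) p)) = true := (allLt_iff _ _).2 fun j _ => by
      cases a5 : allLt 24 fun p => Nat.beq (traceP (tabS cX 5 31) (cSubx.get j) p)
        (traceP m23w_S (cC.subs.get i) p) with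
      | false => rfl
      | true => exact absurd ⟨j, a5⟩ hn
    simp [this] at h10
  have h11 := (lettersLt_iff _ _).1 (LT.all_get (t := cSubx) (f := lettersLt 5) (by decide +kernel) j)
  have h12 := eq_of_tab24 (tab_evalW fun y hy => hx y (by have := h11 y hy; omega)) (hS.evalW h10.1)
    fun p hp => (nbeq_iff _ _).1 ((allLt_iff _ _).1 hj p hp)
  have h13 : ρ (evalW q (cSubx.get j)) = evalW g0 (cC.subs.get i) := by
    rw [map_evalW, ← h12]
    exact evalW_congr fun y hy => (hq y (h11 y hy)).1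
  exact h13 ▸ b3 _ (evalW_mem fun y hy => h8 y (h11 y hy))

theorem split_C (X : Ext π κ) (hC : ∀ w, (∃ m, κ m w) ↔ w ∈ golayCode ∧ w none = 0)
    (hinj : ∀ m w w', κ m w → κ m w' → w = w') : ∃ H : Subgroup E, H ⊓ π.ker = ⊥ ∧ H ⊔ π.ker = ⊤ := by
  obtain ⟨g0, hS, hG⟩ := m23_gen
  obtain ⟨L, h1, h2, h3⟩ := exists_L_C X (fun m w h => (hC w).1 ⟨m, h⟩) hinj hS
  obtain ⟨g, u, h4, h5, h6⟩ := core X hS hG.2.1 h1 h2 h3 (by decide +kernel) cC_nodes
  have e1 : ∀ b < 12, cMd b = gbMask b ∧ Nat.land (cMd b) 16777215 = gbMask b ∧ isCode (gbMask b) = true := by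
    decide +kernel
  have e2 : ∀ b, ¬ b < 12 → cMd b = 2 ^ 23 := fun b hb => by
    unfold cMd
    cases h : blt b 12
    · rfl
    · exact absurd ((blt_iff _ _).1 h) hb
  have h7 : ∀ x, ∃ m, x < 4 → κ m fun p => ev u (cAf x (ptIdx p)) := fun x => by
    by_cases hx : x < 4
    · have a1 : ∀ b < 13, dot (cMd b) (fun p => ev u (cAf x (ptIdx p))) = 0 := fun b hb => by
        rw [dot_ev, (nbeq_iff _ _).1 ((allLt_iff _ _).1 ((allLt_iff _ _).1 cC_mod x hx) b hb), ev_zero]
      obtain ⟨m, hm⟩ := (hC _).2 ⟨(mem_golay_iff _).2 fun i => (dot_eq _ _).symm.trans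
        ((e1 i i.2).1 ▸ a1 i (by omega)), by
          have := a1 12 (by norm_num)
          rwa [e2 12 (by norm_num), dot_two_pow (by norm_num)] at this⟩
      exact ⟨m, fun _ => hm⟩
    · exact ⟨1, fun h => absurd h hx⟩
  choose n hn using h7
  have h8 : ∀ k, ev u (vec cC_R 152 cMd k) = 0 := ev_vec (fun k hk => h6 k (cC_close k hk)) fun i hi b => by
    obtain ⟨a1, a2⟩ := (hC _).1 ⟨_, h5 i hi⟩
    by_cases hb : b < 12
    · rw [(e1 b hb).2.1]
      exact dot_code (e1 b hb).2.2 a1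
    · rw [e2 b hb, show Nat.land (2 ^ 23) 16777215 = 2 ^ 23 by decide, dot_two_pow (by norm_num)]
      exact a2
  refine compl_of_rels (g := fun x => n x * g x) hG.1
    (fun x hx => by rw [map_mul, X.ker _ _ (hn x hx), one_mul, h4]) fun i hi => ?_
  rcases i with _ | i
  · rfl
  have h9 := fox_rel X hS h4 hn (i + 1) (B := fun q => Nat.shiftLeft 1 (Nat.add (Nat.mul 24 (i + 1)) q))
    (by
      convert h5 _ hi using 1
      funext p
      have := ptIdx_lt p
      exact ev_bit u (show 24 * (i + 1) + ptIdx p < 512 by omega))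
  refine X.zero _ ?_
  convert h9 using 1
  funext p
  have h10 := (allLt_iff _ _).1 cC_span i (by omega)
  simp only [force_eq] at h10
  rw [(nbeq_iff _ _).1 ((allLt_iff _ _).1 h10 _ (ptIdx_lt p)), ev_xorM_zero h8]
  rfl

end Cfsg.Agent.Spor.X23
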