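import Mathlib
import Cfsg.Agent.Spor.X23.DCert

/-! Signed tables on the dodecads for the non-split extension of `M23` by the cocode module (generated). -/

set_option autoImplicit false
set_option maxRecDepth 100000
set_option exponentiation.threshold 100000

namespace Cfsg.Agent.Spor.X23

open Cfsg.Agent.Spor Cfsg.Agent.Spor.MX Cfsg.Agent.Spor.Golay

noncomputable def eT_0 : BT :=
(.node (.node (.node (.node (.node (.node (.node (.node (.leaf (nat_lit 0x25d56e77a23c006fdd))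
 (.leaf (nat_lit 0x5e034035c64c66972a))
) (.leaf (nat_lit 0x4198fc572560369ad1))
) (.node (.node (.leaf (nat_lit 0x3d619973834f1de88b))
 (.leaf (nat_lit 0x9609049bc89c7e65c0))
) (.leaf (nat_lit 0x8b560e9c69524f24ec))
)) (.node (.node (.node (.leaf (nat_lit 0x1156ea28f30e11ac5f))
 (.leaf (nat_lit 0x91c9b479a570724ec9))
) (.leaf (nat_lit 0x82405e8079244374a7))
) (.node (.leaf (nat_lit 0x23025e93a5542b1d87))
 (.leaf (nat_lit 0x8f410c9748c45ae683))
))) (.node (.node (.node (.node (.leaf (nat_lit 0x2675868e95210ad6d9))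
 (.leaf (nat_lit 0x89d26e6f83c66c3ab1))
) (.leaf (nat_lit 0x40e8e56d631a3c23d5))
) (.node (.leaf (nat_lit 0x36289c5b61102553ea))
 (.leaf (nat_lit 0x9ed14c86143e553ea4))
)) (.node (.node (.node (.leaf (nat_lit 0x3a06d26763421839cf))
 (.leaf (nat_lit 0x8fc8dc96c0e07815d6))
) (.leaf (nat_lit 0x56a0b911e13a49d93c))
) (.node (.leaf (nat_lit 0x3b29a87d00903107cf))
 (.leaf (nat_lit 0x83c3287f411e611eab))
)))) (.node (.node (.node (.node (.node (.leaf (nat_lit 0x31504588a658064db7))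
 (.leaf (nat_lit 0x84133e6483d06972ac))
) (.leaf (nat_lit 0x1129a638f0b6399d4c))
) (.node (.leaf (nat_lit 0x1e84403401221cb5e))
 (.leaf (nat_lit 0x9ae20d54a9b852a3ba))
)) (.node (.node (.node (.leaf (nat_lit 0x4a01ec82019e154fa9))
 (.leaf (nat_lit 0x96a8e087606874dcc4))
) (.leaf (nat_lit 0x5df0cc0e263c46ca3e))
) (.node (.leaf (nat_lit 0x3588009e26af2e07e6))
 (.leaf (nat_lit 0x9380ff76a0ca5d9986))
))) (.node (.node (.node (.node (.leaf (nat_lit 0xa00d04929730e352f))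
 (.leaf (nat_lit 0x89e35a74c6a46f02ba))
) (.leaf (nat_lit 0x1659144225d93f0f41))
) (.node (.leaf (nat_lit 0x25b82b93c04c285ece))
 (.leaf (nat_lit 0x9a01db69f20a581abe))
)) (.node (.node (.node (.leaf (nat_lit 0x1a96bc37a9f21b3c65))
 (.leaf (nat_lit 0x9ad4ac64e71c7a92a9))
) (.leaf (nat_lit 0x51a06522c2964cb81f))
) (.node (.leaf (nat_lit 0x11e91927c5b233c653))
 (.leaf (nat_lit 0x78e26b55c7a863e296))
))))) (.node (.node (.node (.node (.node (.node (.leaf (nat_lit 0x2df0547858fb03e7b1))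
 (.leaf (nat_lit 0x86a88c90c1406806fd))
) (.leaf (nat_lit 0x3864208d10b0381f99))
) (.node (.leaf (nat_lit 0x3cd1c49868a41f3d88))
 (.leaf (nat_lit 0x6586dc2462dc513f49))
)) (.node (.node (.node (.leaf (nat_lit 0x12065a032590139b47))
 (.leaf (nat_lit 0x9b397e4f69917368e4))
) (.leaf (nat_lit 0x6075e2081377456b6c))
) (.node (.leaf (nat_lit 0xaa31843c3de2cbd38))
 (.leaf (nat_lit 0xa0c6689fe4c45c26f2))
))) (.node (.node (.node (.node (.leaf (nat_lit 0xc051818a3cc0c7975))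
 (.leaf (nat_lit 0x5497861ac2766d7341))
) (.leaf (nat_lit 0x1414351d40d63d431b))
) (.node (.leaf (nat_lit 0x362e82d34dd26cf19))
 (.leaf (nat_lit 0x6ba6440ea85256a257))
)) (.node (.node (.node (.leaf (nat_lit 0x3a562b9550e619d4c7))
 (.leaf (nat_lit 0x6c03e5402228795c26))
) (.leaf (nat_lit 0x7b05ad63e5184b4adc))
) (.node (.leaf (nat_lit 0x1814080289b4327927))
 (.leaf (nat_lit 0x7a08627ab7866274dc))
)))) (.node (.node (.node (.node (.node (.leaf (nat_lit 0x8c5b83c8412083e7b))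
 (.leaf (nat_lit 0x5a67f43b06816ac761))
) (.leaf (nat_lit 0xfe3a738c5cc3ade05))
) (.node (.leaf (nat_lit 0x7536028392723ae3a))
 (.leaf (nat_lit 0x7136bb01a6d753c374))
)) (.node (.node (.node (.leaf (nat_lit 0x17c6f00ac58c16d35a))
 (.leaf (nat_lit 0xa009fe58c9867620f9))
) (.leaf (nat_lit 0x59d514400170484f76))
) (.node (.leaf (nat_lit 0x2d26048e55c2f4e16))
 (.leaf (nat_lit 0x7616b62157575f0a66))
))) (.node (.node (.node (.node (.leaf (nat_lit 0x34254898068e0f55e1))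
 (.leaf (nat_lit 0x9d294050a42470b2f4))
) (.leaf (nat_lit 0x5ae5cc25410541ce79))
) (.node (.leaf (nat_lit 0x26379269329c29b3c6))
 (.leaf (nat_lit 0x70a68610a497597a70))
)) (.node (.node (.node (.leaf (nat_lit 0x4a61349f221e1ccea6))
 (.leaf (nat_lit 0x6a899547a32d7ca45c))
) (.leaf (nat_lit 0x8004d97060284dd8d1))
) (.node (.leaf (nat_lit 0x2099512c4444357d60))
 (.leaf (nat_lit 0x5b932a34412b654d3a))
)))))) (.node (.node (.node (.node (.node (.node (.node (.leaf (nat_lit 0x26a59752a79c02bade))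
 (.leaf (nat_lit 0x7d92588b0507674783))
) (.leaf (nat_lit 0x1d84c409e9c637313a))
) (.node (.leaf (nat_lit 0x2117544279f01e7478))
 (.leaf (nat_lit 0x9b671e7f21c4500dfb))
)) (.node (.node (.node (.leaf (nat_lit 0x1ba7512809ca12bd6a))
 (.leaf (nat_lit 0x8f239c7ad57872d790))
) (.leaf (nat_lit 0x5eb5c63553b744647f))
) (.node (.leaf (nat_lit 0x2dc2ac9486bb2bd6a2))
 (.leaf (nat_lit 0x90471063a88e5b70c9))
))) (.node (.node (.node (.node (.leaf (nat_lit 0x720d838068d0b9f29))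
 (.leaf (nat_lit 0x5be2744741446ccc35))
) (.leaf (nat_lit 0x3ef42e6ef3153cba8c))
) (.node (.leaf (nat_lit 0x2902e758223325e38d))
 (.leaf (nat_lit 0x6791a20e82fe55e11e))
)) (.node (.node (.node (.leaf (nat_lit 0x1c373e0f31e2190b7d))
 (.leaf (nat_lit 0x9913c89214a278a5b1))
) (.leaf (nat_lit 0x5a853a1206664a9a75))
) (.node (.leaf (nat_lit 0x45f9ec7de1cc31ccea))
 (.leaf (nat_lit 0x50678405424c61ba53))
)))) (.node (.node (.node (.node (.node (.leaf (nat_lit 0xb10da31466307563b))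
 (.leaf (nat_lit 0x85080864a92e6a31e5))
) (.leaf (nat_lit 0x1189c33765d43a475c))
) (.node (.leaf (nat_lit 0x2688587e57ae22e7ca))
 (.leaf (nat_lit 0x9b46b379e9ac5335f0))
)) (.node (.node (.node (.leaf (nat_lit 0x20d7570a46f416187f))
 (.leaf (nat_lit 0x9ea3e158a4337563b0))
) (.leaf (nat_lit 0x5385a53487bc47754a))
) (.node (.leaf (nat_lit 0x28b2469a27da2eb781))
 (.leaf (nat_lit 0x9441117565ed5e4396))
))) (.node (.node (.node (.node (.leaf (nat_lit 0x33a0c07346990ec3ab))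
 (.leaf (nat_lit 0x9a34944f5421702bad))
) (.leaf (nat_lit 0x8705c48083af4037ee))
) (.node (.leaf (nat_lit 0x6a3323d117c29173e))
 (.leaf (nat_lit 0x65e61841d35858be46))
)) (.node (.node (.node (.leaf (nat_lit 0x4726b061c72c1bcae1))
 (.leaf (nat_lit 0x61a46c16f8bd7ba01b))
) (.leaf (nat_lit 0x50c0064b705e4d5517))
) (.node (.leaf (nat_lit 0x4089888402d134adc9))
 (.leaf (nat_lit 0x89732587a38064b4ad))
))))) (.node (.node (.node (.node (.node (.node (.leaf (nat_lit 0x31d0be82c3960575bc))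
 (.leaf (nat_lit 0x85c7d697e40e68e4e6))
) (.leaf (nat_lit 0xf643010431d38e91d))
) (.node (.leaf (nat_lit 0x3017ce51610b201bf7))
 (.leaf (nat_lit 0x9c268854c46251e0f3))
)) (.node (.node (.node (.leaf (nat_lit 0x131182318308147d1b))
 (.leaf (nat_lit 0x93142c85d06c74459d))
) (.leaf (nat_lit 0x8880c48b291c463cba))
) (.node (.leaf (nat_lit 0x252e51e429e2d790e))
 (.leaf (nat_lit 0x75867022720f5cd076))
))) (.node (.node (.node (.node (.leaf (nat_lit 0x5157042003a0d5f58))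
 (.leaf (nat_lit 0x7c424ea078106e2497))
) (.leaf (nat_lit 0x4993f498273c3e46b1))
) (.node (.leaf (nat_lit 0x3c7ad09c4f6275953))
 (.leaf (nat_lit 0x66c1d02fa84857341d))
)) (.node (.node (.node (.leaf (nat_lit 0x1a321814a9f81aaa2f))
 (.leaf (nat_lit 0x9c895e6387267a0bf0))
) (.leaf (nat_lit 0x78c01c65a5164bd385))
) (.node (.leaf (nat_lit 0x39c92851a8603330d7))
 (.leaf (nat_lit 0x5a18cb29f65c63466e))
)))) (.node (.node (.node (.node (.node (.leaf (nat_lit 0x30e5dd8f214809c7ec))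
 (.leaf (nat_lit 0x4d02681147d46b7815))
) (.leaf (nat_lit 0x1a79780f09e73b6171))
) (.node (.leaf (nat_lit 0x29477e8962582475c7))
 (.leaf (nat_lit 0xa0673060f44c54a8ee))
)) (.node (.node (.node (.leaf (nat_lit 0x4821705609961778b1))
 (.leaf (nat_lit 0x97092285f57e7706d4))
) (.leaf (nat_lit 0x83e0b09003eb492fb8))
) (.node (.leaf (nat_lit 0x1ac9e423643a30357d))
 (.leaf (nat_lit 0x4fe82329401960575b))
))) (.node (.node (.node (.node (.leaf (nat_lit 0x44e67a7d3470107cf6))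
 (.leaf (nat_lit 0x91a8f07fc30c7176c2))
) (.leaf (nat_lit 0x7b74e85454ec42cbd3))
) (.node (.leaf (nat_lit 0xd8563747df2a7d49))
 (.leaf (nat_lit 0x98316096ea0a5a2da6))
)) (.node (.node (.node (.leaf (nat_lit 0x4b27446cc1dd1d58ec))
 (.leaf (nat_lit 0x7559f02104ba7d606a))
) (.leaf (nat_lit 0x7ec07870450e4e9b98))
) (.node (.leaf (nat_lit 0x13c3a331f5a2361717))
 (.leaf (nat_lit 0x5fc7f0347652660e73))
)))))))

noncomputable def eT_1 : BT :=
(.node (.node (.node (.node (.node (.node (.node (.node (.leaf (nat_lit 0x2e209d7d811c00dfba))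
 (.leaf (nat_lit 0x7ee2ec60679866aa8b))
) (.leaf (nat_lit 0x2299652d99a036a770))
) (.node (.node (.leaf (nat_lit 0x13510444633c1dfc14))
 (.leaf (nat_lit 0x6b89061ce5b47e9344))
) (.leaf (nat_lit 0x5e754a20c96e4f3073))
)) (.node (.node (.node (.leaf (nat_lit 0x10219c23f07611d71d))
 (.leaf (nat_lit 0x64c90a04458b725a56))
) (.leaf (nat_lit 0x84a0e57b662c4396bc))
) (.node (.leaf (nat_lit 0x2c43628d695a2b34b9))
 (.leaf (nat_lit 0x6321b81268865af21c))
))) (.node (.node (.node (.node (.leaf (nat_lit 0x985eb0f89340aeb78))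
 (.leaf (nat_lit 0x8ac7c674f1586c41f3))
) (.leaf (nat_lit 0x17098648835a3c374a))
) (.node (.leaf (nat_lit 0x5383e31d261256e4b))
 (.leaf (nat_lit 0x9f968e8b81ce5545e6))
)) (.node (.node (.node (.leaf (nat_lit 0x4341306664b4186bb3))
 (.leaf (nat_lit 0x6f093e1624b0782877))
) (.leaf (nat_lit 0x77c07692629049e49d))
) (.node (.leaf (nat_lit 0x46994e774446312ef1))
 (.leaf (nat_lit 0x7832437a8243613795))
)))) (.node (.node (.node (.node (.node (.leaf (nat_lit 0x33c0d28498e806afac))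
 (.leaf (nat_lit 0x8292876ba15e6990b7))
) (.leaf (nat_lit 0x4639f663248a39a0ed))
) (.node (.leaf (nat_lit 0x25e78378300821dfc1))
 (.leaf (nat_lit 0x6e815f26499b52b725))
)) (.node (.node (.node (.leaf (nat_lit 0x1e91460a31ba155b36))
 (.leaf (nat_lit 0x75b94209b42274e165))
) (.leaf (nat_lit 0x8a403e86461e46dea1))
) (.node (.leaf (nat_lit 0xe08ac1806682e1379))
 (.leaf (nat_lit 0x72c14a4ce4cb5da427))
))) (.node (.node (.node (.node (.leaf (nat_lit 0xdf5f242a67f0e4e6d))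
 (.leaf (nat_lit 0x5cb2b645a68a6f1625))
) (.leaf (nat_lit 0x4c39776c89df3f32e0))
) (.node (.leaf (nat_lit 0x8a89413a3f528636f))
 (.leaf (nat_lit 0x62218840436258271f))
)) (.node (.node (.node (.leaf (nat_lit 0x1911763cf76c1b4727))
 (.leaf (nat_lit 0x6304513b78987aaf08))
) (.leaf (nat_lit 0x5585661ca0244cc35d))
) (.node (.leaf (nat_lit 0x3c39d24df56633d2cc))
 (.leaf (nat_lit 0x4e730725d78f63f609))
))))) (.node (.node (.node (.node (.node (.node (.leaf (nat_lit 0x760ec03690c03f32e))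
 (.leaf (nat_lit 0x7ad7719692aa682fc3))
) (.leaf (nat_lit 0x4363d59424c03836a7))
) (.node (.leaf (nat_lit 0x41370a9d560c1f46ca))
 (.leaf (nat_lit 0x6c314e24c44a516d35))
)) (.node (.node (.node (.leaf (nat_lit 0x4756bf7ec9ce13a6e6))
 (.leaf (nat_lit 0x7159702586e2739e60))
) (.leaf (nat_lit 0x5ef5220e4112458977))
) (.node (.leaf (nat_lit 0xe887e49e16f2cc67a))
 (.leaf (nat_lit 0x76872e1b647c5c326d))
))) (.node (.node (.node (.node (.leaf (nat_lit 0x36650c99a1430c8ff1))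
 (.leaf (nat_lit 0x7ff78c9d20326d85c5))
) (.leaf (nat_lit 0x3d938f9900ba3d5784))
) (.node (.leaf (nat_lit 0x28724a5da4e826db86))
 (.leaf (nat_lit 0x97e6f686c83456b6c8))
)) (.node (.node (.node (.leaf (nat_lit 0x1b069014c4bc19e966))
 (.leaf (nat_lit 0x8d03976a9350796187))
) (.leaf (nat_lit 0x4fa4fd3f05574b5e43))
) (.node (.leaf (nat_lit 0x43e3f17dc706328fa3))
 (.leaf (nat_lit 0x7b87a281c4f86296c7))
)))) (.node (.node (.node (.node (.node (.leaf (nat_lit 0x2e60a862c3c808b3bd))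
 (.leaf (nat_lit 0x7bd7a06587c46afac0))
) (.leaf (nat_lit 0x44240a6309d83ae3a4))
) (.node (.leaf (nat_lit 0x2e12bc4e48da23baa5))
 (.leaf (nat_lit 0x66370e05185d53ea4a))
)) (.node (.node (.node (.leaf (nat_lit 0x22b6a807298216fa64))
 (.leaf (nat_lit 0x74e96f3579c8763466))
) (.leaf (nat_lit 0x86c5b763412f485be9))
) (.node (.leaf (nat_lit 0x2803026c25142f5a89))
 (.leaf (nat_lit 0x6b470c1ab8935f2358))
))) (.node (.node (.node (.node (.leaf (nat_lit 0x5b59c1e85400f8a5b))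
 (.leaf (nat_lit 0x98e3d25561ad70c9b6))
) (.leaf (nat_lit 0x87552655510e41dae6))
) (.node (.leaf (nat_lit 0x22d33da05c29dc1b))
 (.leaf (nat_lit 0x9be68c9221fc598cf4))
)) (.node (.node (.node (.leaf (nat_lit 0x1fe1d41901d61cda39))
 (.leaf (nat_lit 0x96c8d47683407cb0c3))
) (.leaf (nat_lit 0x5f352046f3ef4de570))
) (.node (.leaf (nat_lit 0x4ca95457c186358be4))
 (.leaf (nat_lit 0x87c28a5920f46559a5))
)))))) (.node (.node (.node (.node (.node (.node (.node (.leaf (nat_lit 0x660d42408ee02fc3d))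
 (.leaf (nat_lit 0x51e30d07e4d667531c))
) (.leaf (nat_lit 0x222a0c0606d4374a78))
) (.node (.leaf (nat_lit 0x4ce7586e47251e82fc))
 (.leaf (nat_lit 0x8e80f47fe088505f87))
)) (.node (.node (.node (.leaf (nat_lit 0x44015d5226f812d2b7))
 (.leaf (nat_lit 0x6e63fa01798a72ea31))
) (.leaf (nat_lit 0x8cc5b45fe1084492fb))
) (.node (.leaf (nat_lit 0x625d1448052beb03))
 (.leaf (nat_lit 0x6617123ba5d65b864d))
))) (.node (.node (.node (.node (.leaf (nat_lit 0x801e3e881e0bb617))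
 (.leaf (nat_lit 0x8923167631526cd8aa))
) (.leaf (nat_lit 0x4059937440c03cc1ce))
) (.node (.leaf (nat_lit 0x3423a32e26b25f712))
 (.leaf (nat_lit 0x93c0fd86a2e155f581))
)) (.node (.node (.node (.leaf (nat_lit 0x46667c92f226191fe2))
 (.leaf (nat_lit 0x6d749317e4ad78b12e))
) (.leaf (nat_lit 0x7ba4f39287e24aa7d4))
) (.node (.leaf (nat_lit 0x1ae95600818d31d875))
 (.leaf (nat_lit 0x77a2e081a01d61d58e))
)))) (.node (.node (.node (.node (.node (.leaf (nat_lit 0x28208d5b87aa076b9a))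
 (.leaf (nat_lit 0x83529f6a06966a4aa7))
) (.leaf (nat_lit 0x3ae8fe6645e63a53c3))
) (.node (.leaf (nat_lit 0x1c7a800a77422f355))
 (.leaf (nat_lit 0x99916b7f071b534eb2))
)) (.node (.node (.node (.leaf (nat_lit 0x3fa6fe89286d1625de))
 (.leaf (nat_lit 0x9e549a6001ae7581ab))
) (.leaf (nat_lit 0x81e5a860b4ee4783ce))
) (.node (.leaf (nat_lit 0x29b79a9ec5462eccc3))
 (.leaf (nat_lit 0x6841a644c5ce5e5709))
))) (.node (.node (.node (.node (.leaf (nat_lit 0xb604243e6880ed734))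
 (.leaf (nat_lit 0x6db3c629946e703f32))
) (.leaf (nat_lit 0x84402681e3b240aeb7))
) (.node (.leaf (nat_lit 0x23a2e36782a1292a9f))
 (.leaf (nat_lit 0x8e41806ac0c858d19b))
)) (.node (.node (.node (.leaf (nat_lit 0x1256573868a61bf740))
 (.leaf (nat_lit 0x8e13c292a8a27bb484))
) (.leaf (nat_lit 0x87f03b75e4094d68b6))
) (.node (.leaf (nat_lit 0x15d8e20be2ec34b956))
 (.leaf (nat_lit 0x60b7c40880f164db70))
))))) (.node (.node (.node (.node (.node (.node (.leaf (nat_lit 0x3340328a21200597a7))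
 (.leaf (nat_lit 0x59a88611c3ca68f079))
) (.leaf (nat_lit 0x37637495135f38fd82))
) (.node (.leaf (nat_lit 0xa2ca29125420bf0f))
 (.leaf (nat_lit 0x70374626644251f46c))
)) (.node (.node (.node (.leaf (nat_lit 0x3e81865d607a148b9f))
 (.leaf (nat_lit 0x9d63cc8b4468746ca3))
) (.leaf (nat_lit 0x8c65e684c6244647f8))
) (.node (.leaf (nat_lit 0x28c2d09ea0562d8f8a))
 (.leaf (nat_lit 0x6ab6c61c43165cf948))
))) (.node (.node (.node (.node (.leaf (nat_lit 0x3655d46c53d60d62f9))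
 (.leaf (nat_lit 0x54a84e2085306e4b4a))
) (.leaf (nat_lit 0x1f04ba1dc74c3e522e))
) (.node (.leaf (nat_lit 0x34581588892a2764f2))
 (.leaf (nat_lit 0x973651584568575bc0))
)) (.node (.node (.node (.leaf (nat_lit 0x4441548ec9ee1abeb0))
 (.leaf (nat_lit 0x9209c66aa8ac7a22ce))
) (.leaf (nat_lit 0x57b05c3c09564bee24))
) (.node (.leaf (nat_lit 0x3803be4d256e334b95))
 (.leaf (nat_lit 0x86680e4e861a6352f1))
)))) (.node (.node (.node (.node (.node (.leaf (nat_lit 0x9051c13c16209d373))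
 (.leaf (nat_lit 0x78a2559195286b8e91))
) (.leaf (nat_lit 0x1d1a0813f7593b836a))
) (.node (.leaf (nat_lit 0x2bc8288460042497dc))
 (.leaf (nat_lit 0x75c66630443854bc71))
)) (.node (.node (.node (.leaf (nat_lit 0x1f61722db6eb178e35))
 (.leaf (nat_lit 0x6b29c90c158e77124b))
) (.leaf (nat_lit 0x57203615f400493b27))
) (.node (.leaf (nat_lit 0x19648e2741c6304e3f))
 (.leaf (nat_lit 0x86f88853839f606afa))
))) (.node (.node (.node (.node (.leaf (nat_lit 0x47872a78c191109eed))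
 (.leaf (nat_lit 0x91199a7ae0707194d9))
) (.leaf (nat_lit 0x50959325f4d842df4c))
) (.node (.leaf (nat_lit 0x26585a62a50c2a8bcd))
 (.leaf (nat_lit 0x6c820a1089dc5a3939))
)) (.node (.node (.node (.leaf (nat_lit 0x1566ee42e3381d654d))
 (.leaf (nat_lit 0x76a9441c01e07d8271))
) (.leaf (nat_lit 0x5e20c246c94c4ea639))
) (.node (.leaf (nat_lit 0x49c4065c79b6362ab6))
 (.leaf (nat_lit 0x8c98b8594610661aec))
)))))))

noncomputable def eT_2 : BT :=
(.node (.node (.node (.node (.node (.node (.node (.node (.leaf (nat_lit 0x7b5da272125015d6f))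
 (.leaf (nat_lit 0x52624d31378566be14))
) (.leaf (nat_lit 0x4934bc57a6c236c8ad))
) (.node (.node (.leaf (nat_lit 0x1ee20447c7671e0f3a))
 (.leaf (nat_lit 0x72e4af1be7287ec138))
) (.leaf (nat_lit 0x5c804d1a567a4f4b31))
)) (.node (.node (.node (.leaf (nat_lit 0x4492024e143011eabc))
 (.leaf (nat_lit 0x710a0000c985727368))
) (.leaf (nat_lit 0x4e409501e77a43ab1d))
) (.node (.leaf (nat_lit 0x8481a0f46722b5b64))
 (.leaf (nat_lit 0x8ed1bc6945f05b0b8b))
))) (.node (.node (.node (.node (.leaf (nat_lit 0x30560a66e69e0b12ef))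
 (.leaf (nat_lit 0x5e988e45d13e6c556c))
) (.leaf (nat_lit 0x3c437772d0c73c5897))
) (.node (.leaf (nat_lit 0x2ac79756f235257ad4))
 (.leaf (nat_lit 0x75373607818e555179))
)) (.node (.node (.node (.leaf (nat_lit 0x1981e437849f187f2c))
 (.leaf (nat_lit 0x9bc9dc905498783ce8))
) (.leaf (nat_lit 0x83603d95c6b24a17b3))
) (.node (.leaf (nat_lit 0x1c89f402a456313a6e))
 (.leaf (nat_lit 0x799790805021614cd7))
)))) (.node (.node (.node (.node (.node (.leaf (nat_lit 0xbb0410af90206bb33))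
 (.leaf (nat_lit 0x4d224041f2bc69ad16))
) (.leaf (nat_lit 0x1b294c3e04cf39b472))
) (.node (.leaf (nat_lit 0x2ee8be7d6914222cef))
 (.leaf (nat_lit 0x6fa6a02b870852cc67))
)) (.node (.node (.node (.leaf (nat_lit 0x3db107890312156697))
 (.leaf (nat_lit 0x7509f22f819a750c6d))
) (.leaf (nat_lit 0x7db01b5ee4f1471a97))
) (.node (.leaf (nat_lit 0x2b285598d7e02e2ed8))
 (.leaf (nat_lit 0x9e71f070d4925db0b8))
))) (.node (.node (.node (.node (.leaf (nat_lit 0x35a53071e69c0e5af2))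
 (.leaf (nat_lit 0x7dc2667007ce6f2b84))
) (.leaf (nat_lit 0x47c41072075c3f49a2))
) (.node (.leaf (nat_lit 0x3037cc8d83e02877f0))
 (.leaf (nat_lit 0x63a6ce3a40b3585c5d))
)) (.node (.node (.node (.leaf (nat_lit 0x43a2206107321b53b8))
 (.leaf (nat_lit 0x90690c65f5ba7ac0d5))
) (.leaf (nat_lit 0x8184d0a0b04e4cd7c2))
) (.node (.leaf (nat_lit 0x48448c88e1bc341dae))
 (.leaf (nat_lit 0x8b07d2862386642df4))
))))) (.node (.node (.node (.node (.node (.node (.leaf (nat_lit 0x3310aa5c239b047aaf))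
 (.leaf (nat_lit 0x50082c11626e683b5c))
) (.leaf (nat_lit 0x44c93c8e01ec384de5))
) (.node (.leaf (nat_lit 0x16665d1865c71f5255))
 (.leaf (nat_lit 0x98c1f453245d5179aa))
)) (.node (.node (.node (.leaf (nat_lit 0x1d376400599413b279))
 (.leaf (nat_lit 0x92491e50082873a3c1))
) (.leaf (nat_lit 0x8be5ca8660fe459de8))
) (.node (.leaf (nat_lit 0x3687d16e912c2cd2e5))
 (.leaf (nat_lit 0x7241dc2132095c492f))
))) (.node (.node (.node (.node (.leaf (nat_lit 0xeb5be1f91500c9b6e))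
 (.leaf (nat_lit 0x5428342200466d915a))
) (.leaf (nat_lit 0x1eb3ed18c48e3d6a25))
) (.node (.leaf (nat_lit 0xb92a433c91926e627))
 (.leaf (nat_lit 0x93e1a88c059e56cd8a))
)) (.node (.node (.node (.leaf (nat_lit 0x3ac63e9386051a0ed7))
 (.leaf (nat_lit 0x61443c39e33e797518))
) (.leaf (nat_lit 0x86955169a96d4b63e2))
) (.node (.leaf (nat_lit 0x1a14b70066c4329b3c))
 (.leaf (nat_lit 0x5aa80605e8fc62ab66))
)))) (.node (.node (.node (.node (.node (.leaf (nat_lit 0x2fb5c168d15608c8ff))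
 (.leaf (nat_lit 0x4f97b615c5426b0357))
) (.leaf (nat_lit 0x4384cc8de73e3b0eac))
) (.node (.leaf (nat_lit 0x2f281c52664223c1e7))
 (.leaf (nat_lit 0x9d81385f64525431b7))
)) (.node (.node (.node (.leaf (nat_lit 0x4c06ae5b46fe1703f3))
 (.leaf (nat_lit 0x7344032f76da764f24))
) (.leaf (nat_lit 0x7ae4d66a62984872d7))
) (.node (.leaf (nat_lit 0xb23644299582f6728))
 (.leaf (nat_lit 0x92d1249be5da5f4c85))
))) (.node (.node (.node (.node (.leaf (nat_lit 0x2b95039a95220f9ec4))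
 (.leaf (nat_lit 0x6d348125719470dd29))
) (.leaf (nat_lit 0x5044e42bd26241e747))
) (.node (.leaf (nat_lit 0x2cc33168640b29e1ba))
 (.leaf (nat_lit 0x6ff73416621259986b))
)) (.node (.node (.node (.leaf (nat_lit 0x3ec18499e3301ce798))
 (.leaf (nat_lit 0x95237070809c7ccb81))
) (.leaf (nat_lit 0x54c58e4b854a4e165e))
) (.node (.leaf (nat_lit 0x41e9a15d42fa35a2da))
 (.leaf (nat_lit 0x7cd2d95ea25165709b))
)))))) (.node (.node (.node (.node (.node (.node (.node (.leaf (nat_lit 0x2545077ce50a0357d6))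
 (.leaf (nat_lit 0x5cf2b30c690a677a22))
) (.leaf (nat_lit 0x16992a0aa85e376346))
) (.node (.leaf (nat_lit 0x22769449a7611e9663))
 (.leaf (nat_lit 0x9a41d879c43c5076b9))
)) (.node (.node (.node (.leaf (nat_lit 0x10011428c87012ef16))
 (.leaf (nat_lit 0x6dd4c02446ec730739))
) (.leaf (nat_lit 0x55c56036225a44af5a))
) (.node (.leaf (nat_lit 0x408264910502c0d5f))
 (.leaf (nat_lit 0x92264c6ae5f65b92d2))
))) (.node (.node (.node (.node (.leaf (nat_lit 0xe50538a52e0bcd55))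
 (.leaf (nat_lit 0x5182c24c62ac6ce50b))
) (.leaf (nat_lit 0x15b8d04360b43cd551))
) (.node (.leaf (nat_lit 0x2702fc56c77026399d))
 (.leaf (nat_lit 0x9ee2148b67045606af))
)) (.node (.node (.node (.leaf (nat_lit 0x3b86ec8e433a1936dc))
 (.leaf (nat_lit 0x7169e11241d578ca6c))
) (.leaf (nat_lit 0x50a58916d7f24ab34b))
) (.node (.leaf (nat_lit 0x3a78fb7972e731e5d4))
 (.leaf (nat_lit 0x56c33c05c3a661e82f))
)))) (.node (.node (.node (.node (.node (.leaf (nat_lit 0x2e0202cb790077f05))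
 (.leaf (nat_lit 0x57434539a6866a5e38))
) (.leaf (nat_lit 0x1bf9663cca0c3a6e62))
) (.node (.leaf (nat_lit 0x158732324e0231e5d))
 (.leaf (nat_lit 0x6de22800e6ce535a2d))
)) (.node (.node (.node (.leaf (nat_lit 0x3de1b2826577165e9c))
 (.leaf (nat_lit 0x72b3e230c1a1759534))
) (.leaf (nat_lit 0x5544f93004e3479751))
) (.node (.leaf (nat_lit 0x4785c19f5112ed85c))
 (.leaf (nat_lit 0x9f12106f49d75e6aa8))
))) (.node (.node (.node (.node (.leaf (nat_lit 0x2890126ea7ca0eea95))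
 (.leaf (nat_lit 0x9b89e253e1a77050ef))
) (.leaf (nat_lit 0x85a5167b90fd40d5f5))
) (.node (.leaf (nat_lit 0x24784661602a2951dd))
 (.leaf (nat_lit 0x6d41d64124c658ec3a))
)) (.node (.node (.node (.leaf (nat_lit 0x4871e29954a01c2cbd))
 (.leaf (nat_lit 0x72647c4ae2237c143b))
) (.leaf (nat_lit 0x5bd0b24503e44d7c29))
) (.node (.leaf (nat_lit 0x3eb42389b08734d68b))
 (.leaf (nat_lit 0x81a77487023a64e6d1))
))))) (.node (.node (.node (.node (.node (.node (.leaf (nat_lit 0x29306a83a24005be99))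
 (.leaf (nat_lit 0x8528a46a215a6909ee))
) (.leaf (nat_lit 0x1824a13ca4cd392d2b))
) (.node (.leaf (nat_lit 0x7f7ca2853b820ed73))
 (.leaf (nat_lit 0x91e6fc4ee5625213dd))
)) (.node (.node (.node (.leaf (nat_lit 0x2021e033a46d14b63e))
 (.leaf (nat_lit 0x72949608242874783c))
) (.leaf (nat_lit 0x5ff53c0ca638465367))
) (.node (.leaf (nat_lit 0x3323e19d0272d9b15))
 (.leaf (nat_lit 0x9646e47580d05d00df))
))) (.node (.node (.node (.node (.leaf (nat_lit 0xdc52c49441a0d7666))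
 (.leaf (nat_lit 0x60180a1ba9326e6274))
) (.leaf (nat_lit 0x13f39e1828883e7b10))
) (.node (.leaf (nat_lit 0xc88ce0668de27706d))
 (.leaf (nat_lit 0x7626b42ec9aa576661))
)) (.node (.node (.node (.leaf (nat_lit 0x4576989477681ac5f2))
 (.leaf (nat_lit 0x6509003a089e7a3651))
) (.leaf (nat_lit 0x8ae512a021644c1ce7))
) (.node (.leaf (nat_lit 0xf946826c5ad335f0a))
 (.leaf (nat_lit 0x4fd7b4249796636f50))
)))) (.node (.node (.node (.node (.node (.leaf (nat_lit 0x2604dc94e2be09eed2))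
 (.leaf (nat_lit 0x4e230a17653a6b9a0e))
) (.leaf (nat_lit 0x1229271078903baa54))
) (.node (.leaf (nat_lit 0xec89007737224aa7d))
 (.leaf (nat_lit 0x73f12d3581c854c733))
)) (.node (.node (.node (.leaf (nat_lit 0x4aa21c5c86fa179aaa))
 (.leaf (nat_lit 0x71c41b0cd700774037))
) (.leaf (nat_lit 0x8545cf95e17e4954fa))
) (.node (.leaf (nat_lit 0x3884325182f030739e))
 (.leaf (nat_lit 0x59e7d4252382607e65))
))) (.node (.node (.node (.node (.leaf (nat_lit 0x3be6127e230410b7d3))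
 (.leaf (nat_lit 0x7009ee01842f71a978))
) (.leaf (nat_lit 0x87b5fa5088d142e2ed))
) (.node (.leaf (nat_lit 0x1a7983dd54c2a9f52))
 (.leaf (nat_lit 0x70c74c1507545a427b))
)) (.node (.node (.node (.leaf (nat_lit 0x3f46247263571d71d2))
 (.leaf (nat_lit 0x936384a0c0ec7dc492))
) (.leaf (nat_lit 0x8a604676e95c4eb2a6))
) (.node (.leaf (nat_lit 0x1f44b02c3998363e29))
 (.leaf (nat_lit 0x54f8602ff78066274d))
)))))))

noncomputable def eT_3 : BT :=
(.node (.node (.node (.node (.node (.node (.node (.node (.leaf (nat_lit 0x3135d051e3a401abeb))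
 (.leaf (nat_lit 0x53b7a436d50166c556))
) (.leaf (nat_lit 0x1da3f232a70f36dc32))
) (.node (.node (.leaf (nat_lit 0x49a15a6ca71e1e1ba5))
 (.leaf (nat_lit 0x6713a822f8b17ee806))
) (.leaf (nat_lit 0x5210982188024f620f))
)) (.node (.node (.node (.leaf (nat_lit 0x19e14527e47511fe23))
 (.leaf (nat_lit 0x9c4a027bc6d97285ec))
) (.leaf (nat_lit 0x7910158117b843bf82))
) (.node (.leaf (nat_lit 0x2567c38e67e82b66c5))
 (.leaf (nat_lit 0x61c11f3a25e05b1f14))
))) (.node (.node (.node (.node (.leaf (nat_lit 0x165af3d58180b2f4e))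
 (.leaf (nat_lit 0x7fa83270226d6c68cd))
) (.leaf (nat_lit 0x1d43d74974c83c6536))
) (.node (.leaf (nat_lit 0x2a28435dc00e2598cf))
 (.leaf (nat_lit 0x9666e08542e4556cd8))
)) (.node (.node (.node (.leaf (nat_lit 0x1871323e2224189d37))
 (.leaf (nat_lit 0x99e4829602207847aa))
) (.leaf (nat_lit 0x78808090e7d84a3e8d))
) (.node (.leaf (nat_lit 0x4213dd7c41d23155b3))
 (.leaf (nat_lit 0x8578a07a038e6165e9))
)))) (.node (.node (.node (.node (.node (.leaf (nat_lit 0x3545f48a464e06d4ee))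
 (.leaf (nat_lit 0x77f2d465627269b989))
) (.leaf (nat_lit 0x19a3da38220239cf30))
) (.node (.leaf (nat_lit 0x2d43507786202257ad))
 (.leaf (nat_lit 0x9c774e4fa6c652d8f8))
)) (.node (.node (.node (.leaf (nat_lit 0x48e14289e47815adb2))
 (.leaf (nat_lit 0x9fa9465e61b57518f2))
) (.leaf (nat_lit 0x5cd05a352928472736))
) (.node (.leaf (nat_lit 0x4e7a61e67f12e3a47))
 (.leaf (nat_lit 0x97c63271831e5de2c4))
))) (.node (.node (.node (.node (.leaf (nat_lit 0x4c4ea4858140e6753))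
 (.leaf (nat_lit 0x53286844e52d6f4459))
) (.leaf (nat_lit 0x3ca47a6d48943f609c))
) (.node (.leaf (nat_lit 0x2fd87d94a1662895eb))
 (.leaf (nat_lit 0x9ba7326464885861fc))
)) (.node (.node (.node (.leaf (nat_lit 0xfb1c63728aa1b6e19))
 (.leaf (nat_lit 0x6469b24106007ad44a))
) (.leaf (nat_lit 0x60d5102253f34cea63))
) (.node (.leaf (nat_lit 0x40c8d288008d344fd2))
 (.leaf (nat_lit 0x5ed8820c839864396b))
))))) (.node (.node (.node (.node (.node (.node (.leaf (nat_lit 0x574d233501704de57))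
 (.leaf (nat_lit 0x57e314169154688b3b))
) (.leaf (nat_lit 0x1aa9d712e21138597a))
) (.node (.leaf (nat_lit 0x2146ac1927311f9970))
 (.leaf (nat_lit 0x6ea1f62b71ca518f2e))
)) (.node (.node (.node (.leaf (nat_lit 0x18921e02c70213c93b))
 (.leaf (nat_lit 0x61847526158273cc1c))
) (.leaf (nat_lit 0x8044e28cc26445b4d6))
) (.node (.leaf (nat_lit 0x5877d44b27c2cef44))
 (.leaf (nat_lit 0x9d512e9b01f45c5db0))
))) (.node (.node (.node (.node (.leaf (nat_lit 0x2be56a9f62a80ca6cf))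
 (.leaf (nat_lit 0x5f47ea1d23cf6db864))
) (.leaf (nat_lit 0x1e04a61fa2183d883e))
) (.node (.leaf (nat_lit 0x33f34d5768d626f2b8))
 (.leaf (nat_lit 0x66f10e08f56456d915))
)) (.node (.node (.node (.leaf (nat_lit 0x4717528d59e81a27e9))
 (.leaf (nat_lit 0x8f744065c0a879839c))
) (.leaf (nat_lit 0x8605fe64c6764b81f9))
) (.node (.leaf (nat_lit 0x39446179483a32a69d))
 (.leaf (nat_lit 0x82d34680c65662c4bb))
)))) (.node (.node (.node (.node (.node (.leaf (nat_lit 0x1256c3ea2b408f55e))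
 (.leaf (nat_lit 0x7b28668fe5246b17c8))
) (.leaf (nat_lit 0x19340d12c75e3b1a33))
) (.node (.leaf (nat_lit 0x818c423963223d578))
 (.leaf (nat_lit 0xa08672590182544af5))
)) (.node (.node (.node (.leaf (nat_lit 0x22476a2c66e417176c))
 (.leaf (nat_lit 0x68645434b86e76661a))
) (.leaf (nat_lit 0x5985c23c23d948ad6d))
) (.node (.leaf (nat_lit 0xa22a849d6bf2f8533))
 (.leaf (nat_lit 0x6691be2055f85f581a))
))) (.node (.node (.node (.node (.leaf (nat_lit 0xe75581a09380fa365))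
 (.leaf (nat_lit 0x61737c2bf30670f417))
) (.leaf (nat_lit 0x7c25784fe23641f3d8))
) (.node (.leaf (nat_lit 0x622913953e629f525))
 (.leaf (nat_lit 0x9126de97636959a5ca))
)) (.node (.node (.node (.leaf (nat_lit 0x1480f71fd3461cf307))
 (.leaf (nat_lit 0x7453ca47149c7cf620))
) (.leaf (nat_lit 0x6025324529464e3f60))
) (.node (.leaf (nat_lit 0x1798f62e62da35b645))
 (.leaf (nat_lit 0x5282da36a01e65861f))
)))))) (.node (.node (.node (.node (.node (.node (.node (.leaf (nat_lit 0x8655c027913036a77))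
 (.leaf (nat_lit 0x88b2b88cb65b678ca6))
) (.leaf (nat_lit 0x15e9ce06e56a37815d))
) (.node (.leaf (nat_lit 0x41b63a73a8af1eabc2))
 (.leaf (nat_lit 0x8e618a7be2d450bd9c))
)) (.node (.node (.node (.leaf (nat_lit 0x3961ad4da82412fb89))
 (.leaf (nat_lit 0x99a41953c6fc7313a6))
) (.leaf (nat_lit 0x81c4d45b023044bbc5))
) (.node (.leaf (nat_lit 0x34d8927323f62c30fe))
 (.leaf (nat_lit 0x99422b6b675a5bc0ae))
))) (.node (.node (.node (.node (.leaf (nat_lit 0x24e59e67d53e0bd9ca))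
 (.leaf (nat_lit 0x7d123771b2706cf194))
) (.leaf (nat_lit 0x4ba9346e14873ce8f0))
) (.node (.leaf (nat_lit 0x2af85f5c04ea2642df))
 (.leaf (nat_lit 0x94910a85283c562f91))
)) (.node (.node (.node (.leaf (nat_lit 0x37219e9360ef194d9e))
 (.leaf (nat_lit 0x65c8d617034c78e352))
) (.leaf (nat_lit 0x77601197a54f4adc96))
) (.node (.leaf (nat_lit 0x1169a30302f831f14b))
 (.leaf (nat_lit 0x82b2857b439561fcb0))
)))) (.node (.node (.node (.node (.node (.leaf (nat_lit 0x2608e332508079d1e))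
 (.leaf (nat_lit 0x7862f063c7cc6a6399))
) (.leaf (nat_lit 0x1b49f83847383a8c79))
) (.node (.leaf (nat_lit 0x3068cc4d68e52323fc))
 (.leaf (nat_lit 0x8ef1d37a684653678c))
)) (.node (.node (.node (.leaf (nat_lit 0x1f321a06498c16633d))
 (.leaf (nat_lit 0x93b3925b22ca75a895))
) (.leaf (nat_lit 0x8ca54c5a38e247aaf0))
) (.node (.leaf (nat_lit 0xce7fa1f59632ef162))
 (.leaf (nat_lit 0x9df1517617505e88b3))
))) (.node (.node (.node (.node (.leaf (nat_lit 0x3a07c4a080c0efe0a))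
 (.leaf (nat_lit 0x63c9962a6302706d4e))
) (.leaf (nat_lit 0x7aa56481225640fccb))
) (.node (.leaf (nat_lit 0x7c8aa37e3ed296c7c))
 (.leaf (nat_lit 0x99213b66148058f8a5))
)) (.node (.node (.node (.leaf (nat_lit 0x16e6d41e234b1c6a5e))
 (.leaf (nat_lit 0x9324277553497c299a))
) (.leaf (nat_lit 0x8a80b77121324d8aad))
) (.node (.leaf (nat_lit 0x2004870b244e34eb2a))
 (.leaf (nat_lit 0x55e8300ee24464f24e))
))))) (.node (.node (.node (.node (.node (.node (.leaf (nat_lit 0x2a057289802205c5db))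
 (.leaf (nat_lit 0x5847d839d14d691d71))
) (.leaf (nat_lit 0x4233ea61a4943939b4))
) (.node (.leaf (nat_lit 0x2fe8974e637020f9ec))
 (.leaf (nat_lit 0x70e75e24f99e522e7c))
)) (.node (.node (.node (.leaf (nat_lit 0x21872d2dc19814cd7c))
 (.leaf (nat_lit 0x9f547e868196748eb8))
) (.leaf (nat_lit 0x80d4f68be7ac466ec6))
) (.node (.leaf (nat_lit 0x33628f9ae3e82da6b4))
 (.leaf (nat_lit 0x9fd6846f648c5d29e1))
))) (.node (.node (.node (.node (.leaf (nat_lit 0xd35d744014a0d947d))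
 (.leaf (nat_lit 0x5f78b622a6946e806f))
) (.leaf (nat_lit 0x3ce3a59aa5d13e8d94))
) (.node (.leaf (nat_lit 0x36e8c28386272786e9))
 (.leaf (nat_lit 0x75e76035a71657847a))
)) (.node (.node (.node (.leaf (nat_lit 0x1b775a0fe7221ad16d))
 (.leaf (nat_lit 0x61139b3f26087a4d13))
) (.leaf (nat_lit 0x7fc5639b82804c35d9))
) (.node (.leaf (nat_lit 0x43c4c95119c33362ab))
 (.leaf (nat_lit 0x4f18642ac502638d4b))
)))) (.node (.node (.node (.node (.node (.leaf (nat_lit 0x2258210227509fa4d))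
 (.leaf (nat_lit 0x57d2af11b9406bb330))
) (.leaf (nat_lit 0x37946a8eb5dc3bc589))
) (.node (.leaf (nat_lit 0x36d7c98a03ad24bee2))
 (.leaf (nat_lit 0x9f61de5a618054d3ac))
)) (.node (.node (.node (.leaf (nat_lit 0x14e1c232c87417a70b))
 (.leaf (nat_lit 0x9dd4c384f6e67754a8))
) (.leaf (nat_lit 0x4eb5761552a649695b))
) (.node (.leaf (nat_lit 0x43248552145030b8bb))
 (.leaf (nat_lit 0x59788a2ba118609c7e))
))) (.node (.node (.node (.node (.leaf (nat_lit 0x4311e77ea46a10e5af))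
 (.leaf (nat_lit 0x9a73e67ba19d71c6a5))
) (.leaf (nat_lit 0x5ac5362b092042f672))
) (.node (.leaf (nat_lit 0x30d7f86889652aa2f3))
 (.leaf (nat_lit 0x9cb6a29087365a56e4))
)) (.node (.node (.node (.leaf (nat_lit 0x1726264a90ea1d8756))
 (.leaf (nat_lit 0x6764421cc0a67dd00d))
) (.leaf (nat_lit 0x8b653e7146644ec9e4))
) (.node (.leaf (nat_lit 0x20a9fd31670a36456b))
 (.leaf (nat_lit 0x80f79f5ec79f6633d2))
)))))))

noncomputable def eT_4 : BT :=
(.node (.node (.node (.node (.node (.node (.node (.node (.leaf (nat_lit 0x9252924239201bf74))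
 (.leaf (nat_lit 0x80885059e4d066d1c9))
) (.leaf (nat_lit 0x3d03a05d385836e193))
) (.node (.node (.leaf (nat_lit 0x3e11aa7258b21e329b))
 (.leaf (nat_lit 0x6664724ba60b7f050e))
) (.leaf (nat_lit 0x7df0189b67ee4f7690))
)) (.node (.node (.node (.leaf (nat_lit 0x46c75c5126f2124bee))
 (.leaf (nat_lit 0x6fd95c04e6f6729173))
) (.leaf (nat_lit 0x4f25aa0564f443d05f))
) (.node (.leaf (nat_lit 0x1886e13080a2b725a))
 (.leaf (nat_lit 0x99d17c6449e45b22b5))
))) (.node (.node (.node (.node (.leaf (nat_lit 0x2584fe6127d20b3bd1))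
 (.leaf (nat_lit 0x5317724b42b26c7c52))
) (.leaf (nat_lit 0x4884886c64823c71a9))
) (.node (.leaf (nat_lit 0xd58a933e3bb25a56e))
 (.leaf (nat_lit 0x6986300d22f6557847))
)) (.node (.node (.node (.leaf (nat_lit 0x1266c23d80dc18cf4b))
 (.leaf (nat_lit 0x6d83d010e1d8785335))
) (.leaf (nat_lit 0x79c59596b5484a45cf))
) (.node (.leaf (nat_lit 0x37544b77c2de317c8d))
 (.leaf (nat_lit 0x5867ef04b3aa617176))
)))) (.node (.node (.node (.node (.node (.leaf (nat_lit 0x485980bd79a06e94f))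
 (.leaf (nat_lit 0x7bf8386b004369c2cb))
) (.leaf (nat_lit 0x1044483ec36b39e60e))
) (.node (.leaf (nat_lit 0x2392487cb7b5227e93))
 (.leaf (nat_lit 0x6486f825b84052e559))
)) (.node (.node (.node (.leaf (nat_lit 0x1e71fd07042a15b92d))
 (.leaf (nat_lit 0x6978ec34c310752553))
) (.leaf (nat_lit 0x8a00e05888dc4733a9))
) (.node (.leaf (nat_lit 0x26e2ea9d75502e559a))
 (.leaf (nat_lit 0x74869e45873a5e0575))
))) (.node (.node (.node (.node (.leaf (nat_lit 0x2b459a6d27c60e73cc))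
 (.leaf (nat_lit 0x7f27bc75c53c6f50c6))
) (.leaf (nat_lit 0x12e3b74868cb3f7403))
) (.node (.leaf (nat_lit 0x24a77b8fb27e28bcd5))
 (.leaf (nat_lit 0x6f266b3f84c2587563))
)) (.node (.node (.node (.leaf (nat_lit 0x38512a6748ba1b7a86))
 (.leaf (nat_lit 0x9b197396276a7b04e3))
) (.leaf (nat_lit 0x6045c84ad1744d076b))
) (.node (.leaf (nat_lit 0x16c990062060345b4d))
 (.leaf (nat_lit 0x8982778ba11a6456b6))
))))) (.node (.node (.node (.node (.node (.node (.leaf (nat_lit 0x36a51a5e03a004e3f6))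
 (.leaf (nat_lit 0x84227292413c689fa4))
) (.leaf (nat_lit 0x39e98d9343653864db))
) (.node (.leaf (nat_lit 0x4036549a08a81fa4d1))
 (.leaf (nat_lit 0x9a813c4f818a519bb1))
)) (.node (.node (.node (.leaf (nat_lit 0x42b17878a6e913dda4))
 (.leaf (nat_lit 0x8dd3b054659273d883))
) (.leaf (nat_lit 0x7e700987200a45cf94))
) (.node (.leaf (nat_lit 0x2aa7809d805a2d16d3))
 (.leaf (nat_lit 0x93418ea0435c5c748e))
))) (.node (.node (.node (.node (.leaf (nat_lit 0x2790629a602e0cdd8d))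
 (.leaf (nat_lit 0x5d728922815c6dc326))
) (.leaf (nat_lit 0x48c3d899c1f73d9ca1))
) (.node (.leaf (nat_lit 0xae3660a663f270b2f))
 (.leaf (nat_lit 0x9e11628799a356e4b4))
)) (.node (.node (.node (.leaf (nat_lit 0x1c06a41389fe1a3376))
 (.leaf (nat_lit 0x62938040e0e5799703))
) (.leaf (nat_lit 0x5915524186b84b9566))
) (.node (.leaf (nat_lit 0x1b8a0603b9ba32e07e))
 (.leaf (nat_lit 0x7782527c078262ed85))
)))) (.node (.node (.node (.node (.node (.leaf (nat_lit 0x2e852a94041c0925f7))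
 (.leaf (nat_lit 0x5a48c610c9366b2a69))
) (.leaf (nat_lit 0x3833b49328cc3b2792))
) (.node (.leaf (nat_lit 0x2518704dc77d23e8d9))
 (.leaf (nat_lit 0x7667203421be545e6a))
)) (.node (.node (.node (.leaf (nat_lit 0x41471856a827172acd))
 (.leaf (nat_lit 0x94b3aa599823767285))
) (.leaf (nat_lit 0x85e50e6b23f948b9f2))
) (.node (.leaf (nat_lit 0x3253686e766e2f91ac))
 (.leaf (nat_lit 0x72317e1b49e25f7124))
))) (.node (.node (.node (.node (.leaf (nat_lit 0x3220dc9986900fccb8))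
 (.leaf (nat_lit 0x61243e04208171191f))
) (.leaf (nat_lit 0x4e94f02a27b2423d57))
) (.node (.leaf (nat_lit 0x682a037c94e2a2f35))
 (.leaf (nat_lit 0x64362c12932559b155))
)) (.node (.node (.node (.leaf (nat_lit 0x14319a48b0e21d1e0f))
 (.leaf (nat_lit 0x73a4981a61db7d1b28))
) (.leaf (nat_lit 0x8840cf6fa66a4e50bd))
) (.node (.leaf (nat_lit 0x13238c33609235cd07))
 (.leaf (nat_lit 0x5db27e30638a65af21))
)))))) (.node (.node (.node (.node (.node (.node (.node (.leaf (nat_lit 0x3096087718f4037ee8))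
 (.leaf (nat_lit 0x5c4359086619679839))
) (.leaf (nat_lit 0x40091789c5a83795c2))
) (.node (.leaf (nat_lit 0x1361b04a66061ec41f))
 (.leaf (nat_lit 0x9266d081908a50c6de))
)) (.node (.node (.node (.leaf (nat_lit 0x45076c7766ee1344fd))
 (.leaf (nat_lit 0x61f3c12a5873732e07))
) (.leaf (nat_lit 0x8950a05a037444e9b9))
) (.node (.leaf (nat_lit 0x32c3206cf1302c4bbc))
 (.leaf (nat_lit 0x6cd1683ac7465bd431))
))) (.node (.node (.node (.node (.leaf (nat_lit 0x836063de97c0be46b))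
 (.leaf (nat_lit 0x7c92dc9c20366d1c9c))
) (.leaf (nat_lit 0x4b09e89841fe3d05f8))
) (.node (.leaf (nat_lit 0x35d7fd5648d3266be1))
 (.leaf (nat_lit 0x6891b40d184d563b0e))
)) (.node (.node (.node (.leaf (nat_lit 0x1852011364bf19703f))
 (.leaf (nat_lit 0x6529983f40e8790e5a))
) (.leaf (nat_lit 0x56604817a9694ae137))
) (.node (.leaf (nat_lit 0x46f9fa7c670d3216fa))
 (.leaf (nat_lit 0x7842f48024fe620f9e))
)))) (.node (.node (.node (.node (.node (.leaf (nat_lit 0x3260eb5df90e07a0bf))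
 (.leaf (nat_lit 0x4d825040880f6a7706))
) (.leaf (nat_lit 0x45896a68e7483a98e6))
) (.node (.leaf (nat_lit 0x89810270922233763))
 (.leaf (nat_lit 0x62011b040862537313))
)) (.node (.node (.node (.leaf (nat_lit 0x49e1588829cc1677a2))
 (.leaf (nat_lit 0x67a43836430a75bc0a))
) (.leaf (nat_lit 0x5c30e630b62a47c52d))
) (.node (.leaf (nat_lit 0x3418196d06742f08f5))
 (.leaf (nat_lit 0x7302124737345e9c2c))
))) (.node (.node (.node (.node (.leaf (nat_lit 0x27f09098e52b0f079d))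
 (.leaf (nat_lit 0x8fe8d84ec2c47079d1))
) (.leaf (nat_lit 0x8585e14f23784138fd))
) (.node (.leaf (nat_lit 0x2eb7e566d4032978e3))
 (.leaf (nat_lit 0x9881f89071f85915ad))
)) (.node (.node (.node (.leaf (nat_lit 0x41061498832a1c7ec1))
 (.leaf (nat_lit 0x6653784623287c3d05))
) (.leaf (nat_lit 0x5d802c4c117a4d9e32))
) (.node (.leaf (nat_lit 0x4a34a85671883512bd))
 (.leaf (nat_lit 0x811836586002650bd9))
))))) (.node (.node (.node (.node (.node (.node (.leaf (nat_lit 0x34e52f84b38c05ece5))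
 (.leaf (nat_lit 0x4ec84840b2b669344f))
) (.leaf (nat_lit 0x46495867221a3942f6))
) (.node (.leaf (nat_lit 0x24883c7cc267213dda))
 (.leaf (nat_lit 0x9cc69b5349b0523ae3))
)) (.node (.node (.node (.leaf (nat_lit 0x4b86645ca1a814d9e3))
 (.leaf (nat_lit 0x7403ce0e61a4749a27))
) (.leaf (nat_lit 0x55158a07a772467a59))
) (.node (.leaf (nat_lit 0xbe32c1f23fe2db22b))
 (.leaf (nat_lit 0x7391fa4562005d463c))
))) (.node (.node (.node (.node (.leaf (nat_lit 0x2a55816ed2780da9dc))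
 (.leaf (nat_lit 0x8b87f29cd6826e94f0))
) (.leaf (nat_lit 0x13944c1ea5e43e990b))
) (.node (.leaf (nat_lit 0xe48160bb644279276))
 (.leaf (nat_lit 0xa026b85a86ca5790e5))
)) (.node (.node (.node (.leaf (nat_lit 0x3a97028f889a1aeccc))
 (.leaf (nat_lit 0x8d445d6405b67a598c))
) (.leaf (nat_lit 0x7e10609f80524c4e9b))
) (.node (.leaf (nat_lit 0x19541f2349ae337634))
 (.leaf (nat_lit 0x7a37b85064d56399d4))
)))) (.node (.node (.node (.node (.node (.leaf (nat_lit 0x2ec5f08dc6840a1dfc))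
 (.leaf (nat_lit 0x58e80d16b6a96bc872))
) (.leaf (nat_lit 0xf23bc1465fa3bd116))
) (.node (.leaf (nat_lit 0xa831e0b810c24d13f))
 (.leaf (nat_lit 0x69018c30e2d254ee0d))
)) (.node (.node (.node (.leaf (nat_lit 0x3e612857f82e17b394))
 (.leaf (nat_lit 0x66a47007c82a776909))
) (.leaf (nat_lit 0x79a4e691028a497dc4))
) (.node (.leaf (nat_lit 0x4769d84d818430c3f9))
 (.leaf (nat_lit 0x7a882e55f24660a1df))
))) (.node (.node (.node (.node (.leaf (nat_lit 0x3b46da50c082115adb))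
 (.leaf (nat_lit 0x6ec49c04c1b871d23a))
) (.leaf (nat_lit 0x8645557a2628430fe5))
) (.node (.leaf (nat_lit 0x9a8bc3969442ab66c))
 (.leaf (nat_lit 0x64e6481128805a6b45))
)) (.node (.node (.node (.leaf (nat_lit 0x41c6d86d80a51d93c9))
 (.leaf (nat_lit 0x6834561b05b87e0a1d))
) (.leaf (nat_lit 0x80a58c7667fa4ee0da))
) (.node (.leaf (nat_lit 0x4ad96d5696c83651f4))
 (.leaf (nat_lit 0x50f2f634e4fc665c0f))
)))))))

noncomputable def eT_5 : BT :=
(.node (.node (.node (.node (.node (.node (.node (.node (.leaf (nat_lit 0x23200a52825201f997))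
 (.leaf (nat_lit 0x5f98b43088ea66ec68))
) (.leaf (nat_lit 0x13a4622e583936f50c))
) (.node (.node (.leaf (nat_lit 0x3f76f26c05bc1e49d9))
 (.leaf (nat_lit 0x92e3ae6f05c57f1191))
) (.leaf (nat_lit 0x7d3084a095534f948b))
)) (.node (.node (.node (.leaf (nat_lit 0x1bc6962316e0125f71))
 (.leaf (nat_lit 0x90b90281486b72acd2))
) (.leaf (nat_lit 0x59554e0148e043f961))
) (.node (.leaf (nat_lit 0x24c8749585592b84de))
 (.leaf (nat_lit 0x6e02223f6a0e5b362a))
))) (.node (.node (.node (.node (.leaf (nat_lit 0x2c20ee61893d0b69ad))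
 (.leaf (nat_lit 0x81677676c0406c8ad6))
) (.leaf (nat_lit 0x1fc48a4421e93c872d))
) (.node (.leaf (nat_lit 0x3507e257837a25b1f1))
 (.leaf (nat_lit 0x97a61c8c208e558ec3))
)) (.node (.node (.node (.leaf (nat_lit 0x3ba6166280a018dbd4))
 (.leaf (nat_lit 0x8eb37f91232e786e94))
) (.leaf (nat_lit 0x84f5389039504a6cf1))
) (.node (.leaf (nat_lit 0x38b38a7e8094319e96))
 (.leaf (nat_lit 0x8727da80e1286187f2))
)))) (.node (.node (.node (.node (.node (.leaf (nat_lit 0x29f4ec83c78906fdd0))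
 (.leaf (nat_lit 0x50378f3be03969d654))
) (.leaf (nat_lit 0x38f38962232739f291))
) (.node (.leaf (nat_lit 0x2c82a27ee91e22b5b6))
 (.leaf (nat_lit 0x90d64a55a85052f1c6))
)) (.node (.node (.node (.leaf (nat_lit 0x22c7420b61b015c26f))
 (.leaf (nat_lit 0x9689ad59b2c67531cc))
) (.leaf (nat_lit 0x8b26025e46404748eb))
) (.node (.leaf (nat_lit 0x9f34a1d79672e683b))
 (.leaf (nat_lit 0x9fe74a74a74a5e11ea))
))) (.node (.node (.node (.node (.leaf (nat_lit 0x29d4ef7405340e91d7))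
 (.leaf (nat_lit 0x5577b14c98176fa642))
) (.leaf (nat_lit 0x3e23ba7435ef3f8287))
) (.node (.leaf (nat_lit 0x23e23295605528c797))
 (.leaf (nat_lit 0x9cf66f6b82065883e7))
)) (.node (.node (.node (.leaf (nat_lit 0x37a1ca6265c21b989d))
 (.leaf (nat_lit 0x6f7a0f11072e7b107c))
) (.leaf (nat_lit 0x8c25246fc1384d13f4))
) (.node (.leaf (nat_lit 0x4c79e68324343466ec))
 (.leaf (nat_lit 0x51c2340d4249646b17))
))))) (.node (.node (.node (.node (.node (.node (.leaf (nat_lit 0xee5ba2d438404f769))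
 (.leaf (nat_lit 0x7962c19782ae68b69a))
) (.leaf (nat_lit 0x12998e1480c238925f))
) (.node (.leaf (nat_lit 0x1627171ff8b61fb04e))
 (.leaf (nat_lit 0x8fa1a15582f251b28f))
)) (.node (.node (.node (.leaf (nat_lit 0x37e1c87e187a13f49a))
 (.leaf (nat_lit 0x6cf4142b29d273e522))
) (.leaf (nat_lit 0x52a0680d901045db0b))
) (.node (.leaf (nat_lit 0xda7e01d84062d2b72))
 (.leaf (nat_lit 0x9550f29cf0ae5c9695))
))) (.node (.node (.node (.node (.leaf (nat_lit 0x3210249ee4140cf4b3))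
 (.leaf (nat_lit 0x52d2d61c627a6dea18))
) (.leaf (nat_lit 0x1758ea1ec0cd3dda42))
) (.node (.leaf (nat_lit 0x3282aa82262e271fb0))
 (.leaf (nat_lit 0x73320e0df9b256f02b))
)) (.node (.node (.node (.leaf (nat_lit 0x42720892c7631a5cab))
 (.leaf (nat_lit 0x9aa3de6b44b679aaa2))
) (.leaf (nat_lit 0x7a45086be7fe4ba8c7))
) (.node (.leaf (nat_lit 0x45c96878899c32f4e1))
 (.leaf (nat_lit 0x4d72ef0527a162f91a))
)))) (.node (.node (.node (.node (.node (.leaf (nat_lit 0x2d10348da14f095eb5))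
 (.leaf (nat_lit 0x8212ba90b6926b45b4))
) (.leaf (nat_lit 0xfc4760f688d3b330d))
) (.node (.leaf (nat_lit 0x107c12937ba23fc46))
 (.leaf (nat_lit 0x9786c95e82ea5463cb))
)) (.node (.node (.node (.leaf (nat_lit 0x16a65331a879173e52))
 (.leaf (nat_lit 0x94045860c58976909e))
) (.leaf (nat_lit 0x5810a641616848d62f))
) (.node (.leaf (nat_lit 0x2830e4497e62fac0d))
 (.leaf (nat_lit 0x9f31669c87405f87a0))
))) (.node (.node (.node (.node (.leaf (nat_lit 0xa40591f66a00fd827))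
 (.leaf (nat_lit 0x98a4aa80a4777124be))
) (.leaf (nat_lit 0x5760c629691a426f2b))
) (.node (.leaf (nat_lit 0x2d834866a95e2a3baa))
 (.leaf (nat_lit 0x6261001730d459ca17))
)) (.node (.node (.node (.leaf (nat_lit 0x4a41fe72e4b81d23ae))
 (.leaf (nat_lit 0x95043a9bb3327d2689))
) (.leaf (nat_lit 0x51108345e7e44e6d1c))
) (.node (.leaf (nat_lit 0x3d443657106635d998))
 (.leaf (nat_lit 0x8bd8a65ac0f665c0fc))
)))))) (.node (.node (.node (.node (.node (.node (.node (.leaf (nat_lit 0x2f45457da660039cf3))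
 (.leaf (nat_lit 0x7d530486e79267a598))
) (.leaf (nat_lit 0x2179750b49be37a863))
) (.node (.leaf (nat_lit 0x1dc1564389ec1eed21))
 (.leaf (nat_lit 0x9d066c7b243650efe0))
)) (.node (.node (.node (.leaf (nat_lit 0x39b6597c8877136dc3))
 (.leaf (nat_lit 0x8f046e4ea82c733a98))
) (.leaf (nat_lit 0x5c002836e3b044fd26))
) (.node (.leaf (nat_lit 0xac26c48016a2c5f23))
 (.leaf (nat_lit 0x8de11d6538975be990))
))) (.node (.node (.node (.node (.leaf (nat_lit 0x2f855e62e9430bf0f4))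
 (.leaf (nat_lit 0x5ba33a1b83d56d213d))
) (.leaf (nat_lit 0x2069521de2143d1167))
) (.node (.leaf (nat_lit 0x3538af5cf63a2689fa))
 (.leaf (nat_lit 0x95f6398ae5a45654d3))
)) (.node (.node (.node (.leaf (nat_lit 0x4471e894422c1986bb))
 (.leaf (nat_lit 0x9168f26430a2791ac5))
) (.leaf (nat_lit 0x8330c891d94b4af5a8))
) (.node (.leaf (nat_lit 0x11b9b7025854322b5b))
 (.leaf (nat_lit 0x57835204890062323f))
)))) (.node (.node (.node (.node (.node (.leaf (nat_lit 0xe354632865e07cf62))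
 (.leaf (nat_lit 0x4d52f23bd51e6a951d))
) (.leaf (nat_lit 0x10e90e3ee8c23aa547))
) (.node (.leaf (nat_lit 0x2c036d5146492358be))
 (.leaf (nat_lit 0x8db1208175b0538597))
)) (.node (.node (.node (.leaf (nat_lit 0x4942068346de1695b9))
 (.leaf (nat_lit 0x6bd99c30206e75c748))
) (.leaf (nat_lit 0x88d04e5fd64a47d1b2))
) (.node (.leaf (nat_lit 0xc48c04826b62f1c6a))
 (.leaf (nat_lit 0x9421b671687c5ea18d))
))) (.node (.node (.node (.node (.leaf (nat_lit 0x32b0509da97b0f2ea3))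
 (.leaf (nat_lit 0x65b8da26206a708f55))
) (.leaf (nat_lit 0x83a0ba53a1164143bf))
) (.node (.leaf (nat_lit 0x8f7e63e6173298e67))
 (.leaf (nat_lit 0x8d30f896436e593c93))
)) (.node (.node (.node (.leaf (nat_lit 0x4076c19e90de1c9cda))
 (.leaf (nat_lit 0x6ad8df4bd0da7c4647))
) (.leaf (nat_lit 0x7e80047642a24da393))
) (.node (.leaf (nat_lit 0x1444462cd2e2352f1c))
 (.leaf (nat_lit 0x54478a35001a651f46))
))))) (.node (.node (.node (.node (.node (.node (.leaf (nat_lit 0xd75d30b03a905f87a))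
 (.leaf (nat_lit 0x4db2de3a6034694f0d))
) (.leaf (nat_lit 0x1c59ea3701fa395669))
) (.node (.leaf (nat_lit 0x2d22927d43be216fa6))
 (.leaf (nat_lit 0x6c421629a71052553e))
)) (.node (.node (.node (.leaf (nat_lit 0x40b6d75802c214f0dd))
 (.leaf (nat_lit 0x95637a8ce30074a786))
) (.leaf (nat_lit 0x8065908744da468cdd))
) (.node (.leaf (nat_lit 0xd089a1941342dc969))
 (.leaf (nat_lit 0x9e913e7482165d52a3))
))) (.node (.node (.node (.node (.leaf (nat_lit 0x444da4a22b90dbd43))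
 (.leaf (nat_lit 0x53d79d1c87c86ea951))
) (.leaf (nat_lit 0x4964b29f0a083ea4aa))
) (.node (.leaf (nat_lit 0x5f86a06d77627bb48))
 (.leaf (nat_lit 0x6a166131184257ad44))
)) (.node (.node (.node (.leaf (nat_lit 0x11063d1428b41af853))
 (.leaf (nat_lit 0x6c74bf3a89eb7a642d))
) (.leaf (nat_lit 0x89a02a9c43dc4c67a5))
) (.node (.leaf (nat_lit 0x18a4ca28971233942f))
 (.leaf (nat_lit 0x59281e26a8f663a475))
)))) (.node (.node (.node (.node (.node (.leaf (nat_lit 0x407f1325380a5b1f))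
 (.leaf (nat_lit 0x4f587a12a7d06be14c))
) (.leaf (nat_lit 0x18e4c60fb9e03bf828))
) (.node (.leaf (nat_lit 0x27b2cf8aa25c24ec9e))
 (.leaf (nat_lit 0x9580f06042ef54fa92))
)) (.node (.node (.node (.leaf (nat_lit 0x3fe65e5d859817c8d6))
 (.leaf (nat_lit 0x68b3ac0db596778b12))
) (.leaf (nat_lit 0x5b35de17c40449a27e))
) (.node (.leaf (nat_lit 0x1ca93a28a1c030d766))
 (.leaf (nat_lit 0x7932c950400060da9d))
))) (.node (.node (.node (.node (.leaf (nat_lit 0x1c773c26e47b11677a))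
 (.leaf (nat_lit 0x62b3950212c971fb04))
) (.leaf (nat_lit 0x5a25fc03c646431b7a))
) (.node (.leaf (nat_lit 0x6434f3e46b02acd2e))
 (.leaf (nat_lit 0x6446fa1745e85a895e))
)) (.node (.node (.node (.leaf (nat_lit 0x22e73843a4a61dae68))
 (.leaf (nat_lit 0x9473989fd5fd7e1e82))
) (.leaf (nat_lit 0x53e4f44787dc4ef445))
) (.node (.leaf (nat_lit 0x1539122ce83e366c55))
 (.leaf (nat_lit 0x8863565f88ff6661ae))
)))))))

noncomputable def eT_6 : BT :=
(.node (.node (.node (.node (.node (.node (.node (.node (.leaf (nat_lit 0x2f05ec50e9040271fb))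
 (.leaf (nat_lit 0x5378790d67a667285e))
) (.leaf (nat_lit 0x3c746787f5ae370c9b))
) (.node (.node (.leaf (nat_lit 0x15164148d6021e5d46))
 (.leaf (nat_lit 0x7204124549f47f2c30))
) (.leaf (nat_lit 0x5c60de22296a4fa92a))
)) (.node (.node (.node (.leaf (nat_lit 0x11c70027886812764f))
 (.leaf (nat_lit 0x64a9c402282072b84d))
) (.leaf (nat_lit 0x5d10a22f20f8441f3d))
) (.node (.leaf (nat_lit 0x2f68138f09542bade0))
 (.leaf (nat_lit 0x6f57623997455b4d68))
))) (.node (.node (.node (.node (.leaf (nat_lit 0x610533c797e0b7d32))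
 (.leaf (nat_lit 0x55b82046b02d6c9e49))
) (.leaf (nat_lit 0x4a93c473620d3c93b2))
) (.node (.leaf (nat_lit 0x33227c5cd11425cab3))
 (.leaf (nat_lit 0x6bf6e2091065559a5c))
)) (.node (.node (.node (.leaf (nat_lit 0x1cd6783934a418e675))
 (.leaf (nat_lit 0x624429156345787a0b))
) (.leaf (nat_lit 0x58d5f81609604a786e))
) (.node (.leaf (nat_lit 0x19d3e803846031a337))
 (.leaf (nat_lit 0x5b18a201c0f261936d))
)))) (.node (.node (.node (.node (.node (.leaf (nat_lit 0xc76052c08f8072d79))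
 (.leaf (nat_lit 0x79e84c6995326a18db))
) (.leaf (nat_lit 0x4244b86707523a01bf))
) (.node (.leaf (nat_lit 0x30b80579062222cef4))
 (.leaf (nat_lit 0x9027148005a6531cce))
)) (.node (.node (.node (.leaf (nat_lit 0x4cd6808371a215d6f0))
 (.leaf (nat_lit 0x94c4445f207e754a8e))
) (.leaf (nat_lit 0x5e55562f4630475c74))
) (.node (.leaf (nat_lit 0x3172a79969482e7ca4))
 (.leaf (nat_lit 0x69d6f44b28c05e2c4b))
))) (.node (.node (.node (.node (.leaf (nat_lit 0xcc5404ab9750eac76))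
 (.leaf (nat_lit 0x5122564685266fdd00))
) (.leaf (nat_lit 0x14c4644355de3f9618))
) (.node (.leaf (nat_lit 0x2e531c8ef3db28eea9))
 (.leaf (nat_lit 0x71871c3ae1f0589778))
)) (.node (.node (.node (.leaf (nat_lit 0x18c22d3909f61ba53c))
 (.leaf (nat_lit 0x63891d1588b97b3942))
) (.leaf (nat_lit 0x5474e046028d4d2e55))
) (.node (.leaf (nat_lit 0x2219320a0454347273))
 (.leaf (nat_lit 0x7e42c4856238647f88))
))))) (.node (.node (.node (.node (.node (.node (.leaf (nat_lit 0x3605d888d126050efe))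
 (.leaf (nat_lit 0x7a782491a03068cdd8))
) (.leaf (nat_lit 0x1ce9300fc47e38bb61))
) (.node (.leaf (nat_lit 0x14a1cd19a5c01fcb0c))
 (.leaf (nat_lit 0x90e6e850206251c9cd))
)) (.node (.node (.node (.leaf (nat_lit 0x21f675324466142f67))
 (.leaf (nat_lit 0x7659df0ce1aa74037e))
) (.leaf (nat_lit 0x8aa0b48c73bd45e6aa))
) (.node (.leaf (nat_lit 0x3193389e11762d44af))
 (.leaf (nat_lit 0x7431371d04855cab34))
))) (.node (.node (.node (.node (.leaf (nat_lit 0x31a0ac71c1600d19bb))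
 (.leaf (nat_lit 0x8823429b267c6e0da9))
) (.leaf (nat_lit 0x3f99c09935c93e14cd))
) (.node (.leaf (nat_lit 0x2843108947b627368e))
 (.leaf (nat_lit 0x9db22658f6d25709bc))
)) (.node (.node (.node (.leaf (nat_lit 0x3711178e38a01a7595))
 (.leaf (nat_lit 0x9c094b6501de79d1e0))
) (.leaf (nat_lit 0x4f75a13b57ea4bbc58))
) (.node (.leaf (nat_lit 0x1a497a277718330d76))
 (.leaf (nat_lit 0x8222b15369116329b3))
)))) (.node (.node (.node (.node (.node (.leaf (nat_lit 0x23c06c9302bb09778b))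
 (.leaf (nat_lit 0x56235c1536a26b512b))
) (.leaf (nat_lit 0x1089d01355f23b484f))
) (.node (.leaf (nat_lit 0x32e31a8873b42427bb))
 (.leaf (nat_lit 0x6b161a2fc2d9547754))
)) (.node (.node (.node (.leaf (nat_lit 0x3c81ce5be59517518f))
 (.leaf (nat_lit 0x9e23f95a598076b9a0))
) (.leaf (nat_lit 0x7940666bc29448eb8e))
) (.node (.leaf (nat_lit 0x27625b73c8072fb892))
 (.leaf (nat_lit 0x68e1181c288a5fba01))
))) (.node (.node (.node (.node (.leaf (nat_lit 0x2740229f481c0fe586))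
 (.leaf (nat_lit 0x70494803e1b2714b63))
) (.leaf (nat_lit 0x83804a4f08d8427bb4))
) (.node (.leaf (nat_lit 0x798023d26b42a5477))
 (.leaf (nat_lit 0x8f91949140b959de88))
)) (.node (.node (.node (.leaf (nat_lit 0x1ec1404244aa1d3731))
 (.leaf (nat_lit 0x68039021a3527d3216))
) (.leaf (nat_lit 0x7c600c7517f64e7983))
) (.node (.leaf (nat_lit 0x1e44a52d744835e439))
 (.leaf (nat_lit 0x5f07dd35f12265d463))
)))))) (.node (.node (.node (.node (.node (.node (.node (.leaf (nat_lit 0x2525b079378c03b5cd))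
 (.leaf (nat_lit 0x5162640ec7a267b107))
) (.leaf (nat_lit 0x1f940f0686d137d321))
) (.node (.leaf (nat_lit 0x47e1749de76e1f14b6))
 (.leaf (nat_lit 0x70668a29c1d0511677))
)) (.node (.node (.node (.leaf (nat_lit 0x10d71b00283213795c))
 (.leaf (nat_lit 0x9019cd53059b7341da))
) (.leaf (nat_lit 0x7ca0728bc25f452d8f))
) (.node (.leaf (nat_lit 0x312cc4312832c761d))
 (.leaf (nat_lit 0x9746cc9c00ac5c0fcc))
))) (.node (.node (.node (.node (.leaf (nat_lit 0x27c0039e42b00c3f96))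
 (.leaf (nat_lit 0x880280a004186d35a2))
) (.leaf (nat_lit 0x3f38f89e63673d2cc6))
) (.node (.leaf (nat_lit 0xca7fe2e061c269d65))
 (.leaf (nat_lit 0x74d69c0c49bc566972))
)) (.node (.node (.node (.leaf (nat_lit 0x38c1028f733519af85))
 (.leaf (nat_lit 0x70895a3aa4a8792764))
) (.leaf (nat_lit 0x5600e23fe6bc4b0c3f))
) (.node (.leaf (nat_lit 0x3b191077f837323fc4))
 (.leaf (nat_lit 0x5898bb01061462497d))
)))) (.node (.node (.node (.node (.node (.leaf (nat_lit 0x5d5b22e279407e65c))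
 (.leaf (nat_lit 0x8303546639316aa8bc))
) (.leaf (nat_lit 0x3aa9b96258853ab1d8))
) (.node (.leaf (nat_lit 0x131327a7c323651f))
 (.leaf (nat_lit 0x9962257b09a653aca9))
)) (.node (.node (.node (.leaf (nat_lit 0x3d21138a886416bc87))
 (.leaf (nat_lit 0x95d9085f45847609c7))
) (.leaf (nat_lit 0x5150163607c047ec13))
) (.node (.leaf (nat_lit 0x29886c7288002f21cb))
 (.leaf (nat_lit 0x6721084c48c85eb512))
))) (.node (.node (.node (.node (.leaf (nat_lit 0xb40e818893e0f3a3c))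
 (.leaf (nat_lit 0x928980548078709bca))
) (.leaf (nat_lit 0x4dc0742a1268417e1e))
) (.node (.leaf (nat_lit 0x310898620136299af8))
 (.leaf (nat_lit 0x9146208fc0bf5947d1))
)) (.node (.node (.node (.leaf (nat_lit 0x21a7241f14b21ca17b))
 (.leaf (nat_lit 0x9769846f209e7c52d8))
) (.leaf (nat_lit 0x52e0714762864db70c))
) (.node (.leaf (nat_lit 0x3dd3875ba2f5353b83))
 (.leaf (nat_lit 0x8c47ed5fa3a26522e7))
))))) (.node (.node (.node (.node (.node (.node (.leaf (nat_lit 0x2b058587c4fa061fcb))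
 (.leaf (nat_lit 0x78023869604a695b92))
) (.leaf (nat_lit 0x3b69a4614320396bc8))
) (.node (.leaf (nat_lit 0x6d32e00037e217b39))
 (.leaf (nat_lit 0x8d71bb54085652689f))
)) (.node (.node (.node (.leaf (nat_lit 0x3f0628828072151dd5))
 (.leaf (nat_lit 0x69242408b2c074b319))
) (.leaf (nat_lit 0x8ba5348c891646a5e3))
) (.node (.leaf (nat_lit 0x427942022a42de057))
 (.leaf (nat_lit 0x67e0fa4b036c5d6f02))
))) (.node (.node (.node (.node (.leaf (nat_lit 0x28e06e73e0490dd29e))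
 (.leaf (nat_lit 0x7ea2f89d151c6ec68c))
) (.leaf (nat_lit 0x1df4041a29db3eb035))
) (.node (.leaf (nat_lit 0x2732628444e527d495))
 (.leaf (nat_lit 0x95a1c059c56c57c299))
)) (.node (.node (.node (.leaf (nat_lit 0x10b7043c460e1b155b))
 (.leaf (nat_lit 0x9843fc69ca007a70b2))
) (.leaf (nat_lit 0x5d409e20a3fd4c733a))
) (.node (.leaf (nat_lit 0x37d47852d85b33a98e))
 (.leaf (nat_lit 0x8628c855090663b0ea))
)))) (.node (.node (.node (.node (.node (.leaf (nat_lit 0x2d60d693e9780a66be))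
 (.leaf (nat_lit 0x7e32c775a03c6c138f))
) (.leaf (nat_lit 0x4c59d47222043c0aeb))
) (.node (.leaf (nat_lit 0x9c28c3263c0253c37))
 (.leaf (nat_lit 0x94e1928ac09755179a))
)) (.node (.node (.node (.leaf (nat_lit 0x1617082d057a17dc49))
 (.leaf (nat_lit 0x7474ce09898f77a22c))
) (.leaf (nat_lit 0x87651e91e3e249b6e1))
) (.node (.leaf (nat_lit 0x3bc8e652f2e830eac7))
 (.leaf (nat_lit 0x58232726938860e73c))
))) (.node (.node (.node (.node (.leaf (nat_lit 0x46b6934d542c1173e5))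
 (.leaf (nat_lit 0x9804007a46dc721cb5))
) (.leaf (nat_lit 0x7b45a37f87bf4326db))
) (.node (.leaf (nat_lit 0x2c729461e66c2ad9b1))
 (.leaf (nat_lit 0x9086349165ca5a9dc1))
)) (.node (.node (.node (.leaf (nat_lit 0x48a1496e21e71dc1b5))
 (.leaf (nat_lit 0x7373f720e9fb7e2323))
) (.leaf (nat_lit 0x7f04fa9fb55b4f0dd2))
) (.node (.leaf (nat_lit 0x3fc9bc5bd84e3678ca))
 (.leaf (nat_lit 0x5b72992ef8f0667531))
)))))))

noncomputable def eT_7 : BT :=
(.node (.node (.node (.node (.node (.node (.node (.node (.leaf (nat_lit 0x955ef28665402877f))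
 (.leaf (nat_lit 0x7f67b285978a673cc1))
) (.leaf (nat_lit 0x48141d8309a83725a5))
) (.node (.node (.leaf (nat_lit 0x4af6aa7319fc1e60e7))
 (.leaf (nat_lit 0x96e9cb70a5bf7f88c8))
) (.leaf (nat_lit 0x60e6001bc6714fd268))
)) (.node (.node (.node (.leaf (nat_lit 0x45b6a64e298812a9f5))
 (.leaf (nat_lit 0x62c45a05858672c30f))
) (.leaf (nat_lit 0x7f85685f000c4459de))
) (.node (.leaf (nat_lit 0x7136a1006782bc23d))
 (.leaf (nat_lit 0x6376624078ce5b6456))
))) (.node (.node (.node (.node (.leaf (nat_lit 0x2da05668a6a70b8bb6))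
 (.leaf (nat_lit 0x8cf8847103c46ca3e8))
) (.leaf (nat_lit 0x1463724a43603cae13))
) (.node (.leaf (nat_lit 0xbd3372de10125de2c))
 (.leaf (nat_lit 0x76c6820e045855b362))
)) (.node (.node (.node (.leaf (nat_lit 0x47a7286844ae18f2ea))
 (.leaf (nat_lit 0x8e242a97d0d8788c8f))
) (.leaf (nat_lit 0x8785e49726ad4a8eea))
) (.node (.leaf (nat_lit 0x44b4a378644131b7a8))
 (.leaf (nat_lit 0x7c084b7c323e61aecc))
)))) (.node (.node (.node (.node (.node (.leaf (nat_lit 0x34655a5c49080739e6))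
 (.leaf (nat_lit 0x58a8b23fc9776a257a))
) (.leaf (nat_lit 0xf145f3d68c63a3c1e))
) (.node (.leaf (nat_lit 0x968b002e63722da6b))
 (.leaf (nat_lit 0x6f976f0469c053216f))
)) (.node (.node (.node (.leaf (nat_lit 0x17662206b2ce15eb51))
 (.leaf (nat_lit 0x67d3822e8074755e11))
) (.leaf (nat_lit 0x7f550a59777e4761d5))
) (.node (.leaf (nat_lit 0x382fb2017f82ea31e))
 (.leaf (nat_lit 0x9636466fe8835e38d4))
))) (.node (.node (.node (.node (.leaf (nat_lit 0x3575e96df92c0eb8e9))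
 (.leaf (nat_lit 0x88e2b470e93a6fe0a1))
) (.leaf (nat_lit 0x21297c4457423fc464))
) (.node (.leaf (nat_lit 0x6e27b14e3fa28fa36))
 (.leaf (nat_lit 0x92b6c465431958aad9))
)) (.node (.node (.node (.leaf (nat_lit 0x42c16c682a021bb1a3))
 (.leaf (nat_lit 0x6cb41612272b7b8925))
) (.leaf (nat_lit 0x81457575229b4d3aca))
) (.node (.leaf (nat_lit 0x4b69388a71c33484f7))
 (.leaf (nat_lit 0x7ce2308c4014649d93))
))))) (.node (.node (.node (.node (.node (.node (.leaf (nat_lit 0x5457e0a824e05335f))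
 (.leaf (nat_lit 0x4ef77817803e68d947))
) (.leaf (nat_lit 0x42e4908f51f238d4bc))
) (.node (.leaf (nat_lit 0x1fa16e1eea071fe232))
 (.leaf (nat_lit 0x63f61f2aa09a51dd52))
)) (.node (.node (.node (.leaf (nat_lit 0x4c8726563426143bf8))
 (.leaf (nat_lit 0xa0b92e8501937417e1))
) (.leaf (nat_lit 0x5dc03909437d45f235))
) (.node (.leaf (nat_lit 0x26d23c98a2922d6d91))
 (.leaf (nat_lit 0xa057229ca1ea5cc4e9))
))) (.node (.node (.node (.node (.leaf (nat_lit 0x2a94df72a0450d4bc7))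
 (.leaf (nat_lit 0x5b529b21769a6e1936))
) (.leaf (nat_lit 0x20ea0518e9d43e296c))
) (.node (.leaf (nat_lit 0x29687782a4de274dcc))
 (.leaf (nat_lit 0x71e164341714571d23))
)) (.node (.node (.node (.leaf (nat_lit 0x3921ae9525fe1a978e))
 (.leaf (nat_lit 0x6408ee3b833679ec41))
) (.leaf (nat_lit 0x4e008740c55e4bc71a))
) (.node (.leaf (nat_lit 0x453a0a4d16cc3319e9))
 (.leaf (nat_lit 0x56436e2508f2633d2c))
)))) (.node (.node (.node (.node (.node (.leaf (nat_lit 0x2ce0bc95a41609bcae))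
 (.leaf (nat_lit 0x77230896681a6b6c8a))
) (.leaf (nat_lit 0x39891a8d25e33b5cd0))
) (.node (.leaf (nat_lit 0x3488808240fa245cf9))
 (.leaf (nat_lit 0x6a76cb36808454954f))
)) (.node (.node (.node (.leaf (nat_lit 0x1d722e3239d1176c2e))
 (.leaf (nat_lit 0xa0f9636026f076c2e2))
) (.leaf (nat_lit 0x4de0003b228548ff11))
) (.node (.leaf (nat_lit 0x2b67ae6da51a2fc3d0))
 (.leaf (nat_lit 0x69e64f21c5f45fc143))
))) (.node (.node (.node (.node (.leaf (nat_lit 0x2b08a1977d60ff119))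
 (.leaf (nat_lit 0x6569ae0122cd71625d))
) (.leaf (nat_lit 0x82e0cb5526344299af))
) (.node (.leaf (nat_lit 0x2447ab67b7fd2a69d6))
 (.leaf (nat_lit 0x6ef1f211849159e329))
)) (.node (.node (.node (.leaf (nat_lit 0x20567e47f22e1d4c73))
 (.leaf (nat_lit 0x6948f41b20aa7d4954))
) (.leaf (nat_lit 0x52200f4cb5444e8f07))
) (.node (.leaf (nat_lit 0x4903ee5e345a35f0a6))
 (.leaf (nat_lit 0x80378960824a65e9c2))
)))))) (.node (.node (.node (.node (.node (.node (.node (.leaf (nat_lit 0x2410927e650403ce8f))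
 (.leaf (nat_lit 0x5537ba0924d267ca45))
) (.leaf (nat_lit 0x3e43b983f84537ee80))
) (.node (.leaf (nat_lit 0x12c1261e08bf1f2917))
 (.leaf (nat_lit 0x91862f5422fc512bd6))
)) (.node (.node (.node (.leaf (nat_lit 0x3c1707780580138fd8))
 (.leaf (nat_lit 0x63492424a57c735545))
) (.leaf (nat_lit 0x81357c85a0064556cd))
) (.node (.leaf (nat_lit 0x31f2787463f12ca9a7))
 (.leaf (nat_lit 0x6af6102060c45c1b53))
))) (.node (.node (.node (.node (.leaf (nat_lit 0x34a5bc9dc4100c6dea))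
 (.leaf (nat_lit 0x8c07de9b41466d4ee0))
) (.leaf (nat_lit 0x15899e1853223d3859))
) (.node (.leaf (nat_lit 0x4a8533307b126b45b))
 (.leaf (nat_lit 0x76f7480846c1568b69))
)) (.node (.node (.node (.leaf (nat_lit 0x10619614035519bb1a))
 (.leaf (nat_lit 0x98749e6361e47948b9))
) (.leaf (nat_lit 0x7740966a48084b319e))
) (.node (.leaf (nat_lit 0x4284b47739a4326db8))
 (.leaf (nat_lit 0x84c7f77f7650625de2))
)))) (.node (.node (.node (.node (.node (.leaf (nat_lit 0x2ba5005d07a407f2c3))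
 (.leaf (nat_lit 0x5692974149716abc23))
) (.leaf (nat_lit 0x39044f67e5ea3aca9a))
) (.node (.leaf (nat_lit 0x24230051d4f323939b))
 (.leaf (nat_lit 0x6d117a05a9c553b836))
)) (.node (.node (.node (.leaf (nat_lit 0x41664384257316c7c5))
 (.leaf (nat_lit 0x69a9b02ea574761d58))
) (.leaf (nat_lit 0x7d609a5ae77947f88c))
) (.node (.leaf (nat_lit 0x3e7bf4337ed2f3554))
 (.leaf (nat_lit 0x6b76364665d25ece50))
))) (.node (.node (.node (.node (.leaf (nat_lit 0xc260c1da6ab0f417e))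
 (.leaf (nat_lit 0x71a9db2b446470a66b))
) (.leaf (nat_lit 0x56f0af2ae3c341b53b))
) (.node (.leaf (nat_lit 0x2083a38828e29a759))
 (.leaf (nat_lit 0x6546e615a0cf59534e))
)) (.node (.node (.node (.leaf (nat_lit 0x4bc6769ac49a1cb5e4))
 (.leaf (nat_lit 0x75692d4c321c7c8d62))
) (.leaf (nat_lit 0x54057a4cc0594dcc4e))
) (.node (.leaf (nat_lit 0x1549aa32009835545e))
 (.leaf (nat_lit 0x60889e2f1390653678))
))))) (.node (.node (.node (.node (.node (.node (.leaf (nat_lit 0x35e54282e8ec0636f5))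
 (.leaf (nat_lit 0x5712823fa41f696633))
) (.leaf (nat_lit 0x3a38e86800d23989d3))
) (.node (.leaf (nat_lit 0x2cb33478e103218dbd))
 (.leaf (nat_lit 0x62e1a42a95a0529e1b))
)) (.node (.node (.node (.leaf (nat_lit 0x4b573a8844731534eb))
 (.leaf (nat_lit 0x6a59820dc07c74c85b))
) (.leaf (nat_lit 0x5fa5f60968d446b17c))
) (.node (.leaf (nat_lit 0x2a68409a42882df4c8))
 (.leaf (nat_lit 0x6741904640bc5d8d19))
))) (.node (.node (.node (.node (.leaf (nat_lit 0x3390306dd3d20dfba0))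
 (.leaf (nat_lit 0x52424421f5366ed213))
) (.leaf (nat_lit 0x17e9bb19987f3ee249))
) (.node (.leaf (nat_lit 0xa62be0748e727e934))
 (.leaf (nat_lit 0x68d1233675aa57d606))
)) (.node (.node (.node (.leaf (nat_lit 0x455766668a041b28fa))
 (.leaf (nat_lit 0x6e23fe41a7647a8636))
) (.leaf (nat_lit 0x8910a4a0f16c4c85be))
) (.node (.leaf (nat_lit 0xf43b223a84a33bd11))
 (.leaf (nat_lit 0x84935f4fd61663cba8))
)))) (.node (.node (.node (.node (.node (.leaf (nat_lit 0x23407b94c8120aad9b))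
 (.leaf (nat_lit 0x5d33224bf40d6c2e2e))
) (.leaf (nat_lit 0x21c93642c1ef3c1e74))
) (.node (.leaf (nat_lit 0xd87e82c8106254775))
 (.leaf (nat_lit 0x73c1ee0c345e552a3b))
)) (.node (.node (.node (.leaf (nat_lit 0x4be76857499217e1e8))
 (.leaf (nat_lit 0x6a292008c83077f050))
) (.leaf (nat_lit 0x82602e97017949cda3))
) (.node (.leaf (nat_lit 0x12a98b23c2d630fe58))
 (.leaf (nat_lit 0x84627054e39d60f3a3))
))) (.node (.node (.node (.node (.leaf (nat_lit 0x4607415241b61191fe))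
 (.leaf (nat_lit 0x8d84527fb86672358b))
) (.leaf (nat_lit 0x7700887984e6435d99))
) (.node (.leaf (nat_lit 0x2362fe6907f52af08f))
 (.leaf (nat_lit 0x6e415216474e5adb22))
)) (.node (.node (.node (.leaf (nat_lit 0x1e31ea49822b1dd52a))
 (.leaf (nat_lit 0x74b9601a87207e5861))
) (.leaf (nat_lit 0x5345a61ae5124f194d))
) (.node (.leaf (nat_lit 0x17a9be33859c368e4e))
 (.leaf (nat_lit 0x8a229c5aa6126683b5))
)))))))

noncomputable def eT : BT :=
(.node (.node (.node eT_0 eT_4) (.node eT_2 eT_6)) (.node (.node eT_1 eT_5) (.node eT_3 eT_7)))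

noncomputable def eP : BT :=
(.node (.node (.node (.node (.leaf (nat_lit 0x504001))
 (.leaf (nat_lit 0x3b6000))
) (.leaf (nat_lit 0x4fb000))
) (.node (.node (.leaf (nat_lit 0x4ff000))
 (.leaf (nat_lit 0x506001))
) (.leaf (nat_lit 0x4b1001))
)) (.node (.node (.node (.leaf (nat_lit 0x505000))
 (.leaf (nat_lit 0x25e000))
) (.leaf (nat_lit 0x4e7000))
) (.node (.node (.leaf (nat_lit 0x4f9000))
 (.leaf (nat_lit 0x507000))
) (.leaf (nat_lit 0x467000))
)))

/-- The mask of a dodecad. -/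
noncomputable def eY (j : ℕ) : ℕ := Nat.land (eT.get j) 16777215

/-- Twice the image of a dodecad, plus the sign. -/
noncomputable def eE (x j : ℕ) : ℕ := Nat.land (Nat.shiftRight (eT.get j) (Nat.add 24 (Nat.mul 12 x))) 4095

/-- The tables on signed dodecads. -/
noncomputable def eT2 (x st : ℕ) : ℕ := force st fun st => force (Nat.shiftRight st 1) fun j =>
  Nat.xor (eE x j) (Nat.land st 1)

/-- The check of one dodecad. -/
noncomputable def eB (j : ℕ) : Bool := force j fun j => force (eY j) fun Y =>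
  band (bor (Nat.beq j 1287) (blt Y (eY (Nat.succ j)))) <|
    band (allLt 4 fun x => force (Nat.shiftRight (eE x j) 1) fun k => band (blt k 1288)
      (force (eY k) fun Y' => imgB (m23w_S x) Y Y'))
    (allLt 16 fun i => Nat.beq (traceP eT2 (m23_rels.get i) (Nat.mul 2 j))
      (Nat.add (Nat.mul 2 j) (popc (Y &&& dZ.get i) % 2)))

theorem eB_n0 : allRange (nat_lit 0) (nat_lit 256) eB = true := by decide +kernel

theorem eB_n1 : allRange (nat_lit 256) (nat_lit 256) eB = true := by decide +kernel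

theorem eB_n2 : allRange (nat_lit 512) (nat_lit 256) eB = true := by decide +kernel

theorem eB_n3 : allRange (nat_lit 768) (nat_lit 256) eB = true := by decide +kernel

theorem eB_n4 : allRange (nat_lit 1024) (nat_lit 256) eB = true := by decide +kernel

theorem eB_n5 : allRange (nat_lit 1280) (nat_lit 8) eB = true := by decide +kernel

theorem eB_all : ∀ j < 1288, eB j = true :=
  (range_append (a := 1280) (b := 1288) 8 (range_append (a := 1024) (b := 1280) 256 (range_append (a := 768) (b := 1024) 256 (range_append (a := 512) (b := 768) 256 (range_append (a := 256) (b := 512) 256 (range_append (a := 0) (b := 256) 256 (fun _ h => absurd h (Nat.not_lt_zero _)) eB_n0) eB_n1) eB_n2) eB_n3) eB_n4) eB_n5)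

end Cfsg.Agent.Spor.X23
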