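import Mathlib
import Cfsg.Agent.Spor.X23.ECert
import Cfsg.Agent.Spor.X23.Dm

/-! The non-split extension of `M23` by the cocode module, as a group of signed permutations of dodecads. -/

set_option autoImplicit false

namespace Cfsg.Agent.Spor.X23

open Cfsg.Agent.Spor Cfsg.Agent.Spor.Golay Cfsg.Agent.Spor.MX Finset

/-- The action on words. -/
def actW (s : Spor.M23) (w : Wd) : Wd := w ∘ ⇑((s : Equiv.Perm GolayPt)⁻¹)

theorem actW_mul (s t : Spor.M23) (w : Wd) : actW (s * t) w = actW s (actW t w) := by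
  funext x
  simp [actW]

theorem actW_one (w : Wd) : actW 1 w = w := rfl

theorem eB_spec {j : ℕ} (hj : j < 1288) : (j = 1287 ∨ eY j < eY (j + 1)) ∧
    (∀ x < 4, eE x j / 2 < 1288 ∧ imgB (m23w_S x) (eY j) (eY (eE x j / 2)) = true) ∧
    ∀ i < 16, traceP eT2 (m23_rels.get i) (2 * j) = 2 * j + popc (eY j &&& dZ.get i) % 2 := by
  have h := eB_all j hj
  unfold eB at h
  simp only [force_eq, band_iff, bor_iff, allLt_iff, nbeq_iff, blt_iff] at h
  exact h

theorem eY_lt (j : ℕ) : eY j < 2 ^ 24 := Nat.and_lt_two_pow _ (by norm_num)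

theorem eY_mono {i j : ℕ} (h : i < j) (hj : j < 1288) : eY i < eY j := by
  induction j with
  | zero => omega
  | succ j ih =>
    have h1 := (eB_spec (show j < 1288 by omega)).1.resolve_left (by omega)
    rcases Nat.lt_succ_iff_lt_or_eq.1 h with h2 | rfl
    · exact (ih h2 (by omega)).trans h1
    · exact h1

theorem eY_inj {i j : ℕ} (hi : i < 1288) (hj : j < 1288) (h : maskWord (eY i) = maskWord (eY j)) : i = j := by
  have h1 : eY i = eY j := maskSet_inj_of_lt (eY_lt i) (eY_lt j) (by rw [← support_maskWord, h, support_maskWord])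
  rcases lt_trichotomy i j with h2 | h2 | h2
  · exact absurd h1 (eY_mono h2 hj).ne
  · exact h2
  · exact absurd h1.symm (eY_mono h2 hi).ne

theorem actW_node {g0 : ℕ → Spor.M23} (hS : Tabs ptOf 24 m23w_S g0 4) {x j : ℕ} (hx : x < 4) (hj : j < 1288) :
    actW (g0 x) (maskWord (eY j)) = maskWord (eY (eE x j / 2)) := by
  funext p
  rw [← Equiv.apply_symm_apply (g0 x : Equiv.Perm GolayPt) p, maskWord_img (hS x hx) ((eB_spec hj).2.1 x hx).2]
  simp [actW]

theorem node_closed (s : Spor.M23) : ∀ j < 1288, ∃ k < 1288, actW s (maskWord (eY j)) = maskWord (eY k) := by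
  obtain ⟨g0, hS, hG⟩ := m23_gen
  let P : Spor.M23 → Prop := fun s => ∀ j < 1288, ∃ k < 1288, actW s (maskWord (eY j)) = maskWord (eY k)
  have h1 : P 1 := fun j hj => ⟨j, hj, rfl⟩
  have h2 : ∀ a b, P a → P b → P (a * b) := fun a b ha hb j hj => by
    obtain ⟨k, h3, h4⟩ := hb j hj
    obtain ⟨l, h5, h6⟩ := ha k h3
    exact ⟨l, h5, by rw [actW_mul, h4, h6]⟩
  have h3 : ∀ a (n : ℕ), P a → P (a ^ n) := fun a n ha => by
    induction n with
    | zero => exact (pow_zero a).symm ▸ h1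
    | succ n ih => exact (pow_succ a n).symm ▸ h2 _ _ ih ha
  have h4 : s ∈ genLt g0 4 := hG.1.symm ▸ Subgroup.mem_top s
  refine Subgroup.closure_induction (p := fun s _ => P s) ?_ h1 (fun a b _ _ => h2 a b) (fun a _ ha => ?_) h4
  · rintro _ ⟨x, hx, rfl⟩ j hj
    exact ⟨_, ((eB_spec hj).2.1 x hx).1, actW_node hS hx hj⟩
  · have h5 : a⁻¹ = a ^ (orderOf a - 1) := by
      rw [inv_eq_iff_mul_eq_one, ← pow_succ', Nat.sub_add_cancel (orderOf_pos a), pow_orderOf_eq_one]
    exact h5 ▸ h3 a _ ha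

/-- The dodecads not containing the extra point. -/
def Om : Type := {w : Wd // (∃ j < 1288, w = maskWord (eY j)) ∧ w ∈ golayCode ∧ w none = 0}

instance : Finite Om := by unfold Om; infer_instance

instance : MulAction Spor.M23 Om where
  smul s w := ⟨actW s w.1, by
    obtain ⟨⟨j, h1, h2⟩, h3, h4⟩ := w.2
    have h5 : (s : Equiv.Perm GolayPt)⁻¹ ∈ Fix {none} := M23_eq_Fix ▸ Spor.M23.inv_mem s.2
    refine ⟨by rw [h2]; exact node_closed s j h1, (mem_M24_iff _).1 (mem_Fix.1 h5).1 _ h3, ?_⟩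
    rw [actW, Function.comp_apply, (mem_Fix.1 h5).2 none (mem_singleton_self _), h4]⟩
  one_smul w := rfl
  mul_smul s t w := Subtype.ext (actW_mul s t w.1)

theorem smul_val (s : Spor.M23) (w : Om) : (s • w).1 = actW s w.1 := rfl

/-- Signed permutations of the dodecads. -/
abbrev WW : Type := (Om → Z2) ⋊[mulAutArrow] Spor.M23

instance : Finite WW := Finite.of_equiv _ SemidirectProduct.equivProd.symm

open Classical in
/-- The number of a dodecad. -/
noncomputable def idx (w : Wd) : ℕ := if h : ∃ j < 1288, w = maskWord (eY j) then h.choose else 0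

theorem idx_node {j : ℕ} (hj : j < 1288) : idx (maskWord (eY j)) = j := by
  have h : ∃ k < 1288, maskWord (eY j) = maskWord (eY k) := ⟨j, hj, rfl⟩
  rw [idx, dif_pos h]
  exact (eY_inj hj h.choose_spec.1 h.choose_spec.2).symm

/-- The lifts of the letters. -/
noncomputable def GG (g0 : ℕ → Spor.M23) (x : ℕ) : WW :=
  ⟨fun w => Multiplicative.ofAdd ((eE x (idx ((g0 x)⁻¹ • w).1) : ℕ) : ZMod 2), g0 x⟩

/-- The sign changes given by a word. -/
def io (w : Wd) : WW := SemidirectProduct.inl fun y => Multiplicative.ofAdd (∑ p, y.1 p * w p)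

theorem io_add (v w : Wd) : io (v + w) = io v * io w := by
  unfold io
  rw [← map_mul]
  refine congrArg _ (funext fun y => ?_)
  simp only [Pi.add_apply, mul_add, sum_add_distrib, ofAdd_add, Pi.mul_apply]

theorem io_zero : io 0 = 1 := by
  unfold io
  rw [← map_one SemidirectProduct.inl]
  refine congrArg _ (funext fun y => ?_)
  simp

theorem io_conj (g : WW) (w : Wd) : io (w ∘ ⇑((g.right : Equiv.Perm GolayPt)⁻¹)) = g * io w * g⁻¹ := by
  rw [eq_mul_inv_iff_mul_eq]
  refine SemidirectProduct.ext ?_ (by simp [io])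
  funext y
  have : ∑ p, y.1 p * w ((g.right : Equiv.Perm GolayPt)⁻¹ p) = ∑ p, (g.right⁻¹ • y).1 p * w p := by
    rw [← Equiv.sum_comp (g.right : Equiv.Perm GolayPt)]
    exact sum_congr rfl fun p _ => by simp [smul_val, actW]
  simp only [io, SemidirectProduct.mul_left, SemidirectProduct.left_inl, SemidirectProduct.right_inl, map_one,
    MulAut.one_apply, Pi.mul_apply, Function.comp_apply, this]
  exact mul_comm _ _

theorem io_eq_one (w : Wd) : io w = 1 ↔ D0 w := by
  have h1 : io w = 1 ↔ ∀ y : Om, ∑ p, y.1 p * w p = 0 := by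
    rw [io, ← map_one SemidirectProduct.inl, SemidirectProduct.inl_inj, funext_iff]
    rfl
  rw [h1]
  refine ⟨fun h => D0_of_dot fun b hb => ?_, fun h y => ?_⟩
  · have h2 : ∀ j < 1288, isCode (eY j) = true → (eY j).testBit 23 = false → dot (eY j) w = 0 := fun j hj a1 a2 => by
      rw [dot_eq]
      exact h ⟨_, ⟨j, hj, rfl⟩, (maskWord_mem_iff _).2 a1, by simp [maskWord, ptIdx, a2]⟩
    have h3 : ∀ b < 12, c11t.get b = eY (eP.get b % 4096) ^^^ eY (eP.get b / 4096) ∧
        (eP.get b % 4096 < 1288 ∧ isCode (eY (eP.get b % 4096)) = true ∧ (eY (eP.get b % 4096)).testBit 23 = false) ∧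
        eP.get b / 4096 < 1288 ∧ isCode (eY (eP.get b / 4096)) = true ∧ (eY (eP.get b / 4096)).testBit 23 = false := by
      decide +kernel
    obtain ⟨a1, a2, a3⟩ := h3 b hb
    rw [a1, dot_xor, h2 _ a2.1 a2.2.1 a2.2.2, h2 _ a3.1 a3.2.1 a3.2.2, add_zero]
  · obtain ⟨⟨j, -, a1⟩, a2, a3⟩ := y.2
    rw [a1] at a2 a3 ⊢
    rw [← dot_eq]
    refine dot_D0 ((maskWord_mem_iff _).1 a2) ?_ h
    cases a4 : (eY j).testBit 23
    · rfl
    · simp [maskWord, ptIdx, a4] at a3

variable {g0 : ℕ → Spor.M23}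

theorem right_evalW (r : List ℕ) : (evalW (GG g0) r).right = evalW g0 r :=
  map_evalW SemidirectProduct.rightHom (GG g0) r

theorem left_evalW (hS : Tabs ptOf 24 m23w_S g0 4) (r : List ℕ) (hr : ∀ x ∈ r, x < 4) {j : ℕ} (hj : j < 1288) (y : Om)
    (hy : y.1 = maskWord (eY j)) :
    traceP eT2 r (2 * j) / 2 < 1288 ∧ (evalW g0 r • y).1 = maskWord (eY (traceP eT2 r (2 * j) / 2)) ∧
      (evalW (GG g0) r).left (evalW g0 r • y) = Multiplicative.ofAdd ((traceP eT2 r (2 * j) : ℕ) : ZMod 2) := by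
  induction r with
  | nil =>
    have e : traceP eT2 [] (2 * j) = 2 * j := rfl
    rw [e, show 2 * j / 2 = j by omega]
    refine ⟨hj, by simpa using hy, ?_⟩
    rw [(ZMod.natCast_eq_zero_iff_even).2 (even_two_mul j)]
    rfl
  | cons x r ih =>
    obtain ⟨h1, h2, h3⟩ := ih fun y hy => hr y (by simp [hy])
    have hx : x < 4 := hr x (by simp)
    have e : traceP eT2 (x :: r) (2 * j) =
        eE x (traceP eT2 r (2 * j) / 2) ^^^ traceP eT2 r (2 * j) % 2 := by
      rw [← Nat.and_one_is_mod]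
      rfl
    generalize traceP eT2 r (2 * j) = st at h1 h2 h3 e
    have h4 : st % 2 / 2 = 0 := by omega
    have h5 : traceP eT2 (x :: r) (2 * j) / 2 = eE x (st / 2) / 2 := by
      rw [e, Nat.xor_div_two, h4, Nat.xor_zero]
    have h6 : ((traceP eT2 (x :: r) (2 * j) : ℕ) : ZMod 2) = (eE x (st / 2) : ℕ) + (st : ℕ) := by
      rw [← Nat.cast_add, ZMod.natCast_eq_natCast_iff', e, Nat.xor_mod_two_eq]
      omega
    rw [h5, h6, evalW_cons, evalW_cons, mul_smul, smul_val, h2, actW_node hS hx h1]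
    refine ⟨((eB_spec h1).2.1 x hx).1, rfl, ?_⟩
    rw [SemidirectProduct.mul_left, Pi.mul_apply, ofAdd_add, ← h3]
    congr 1
    · show Multiplicative.ofAdd ((eE x (idx ((g0 x)⁻¹ • g0 x • evalW g0 r • y).1) : ℕ) : ZMod 2) = _
      rw [inv_smul_smul, h2, idx_node h1]
    · show (evalW (GG g0) r).left ((g0 x)⁻¹ • g0 x • evalW g0 r • y) = _
      rw [inv_smul_smul]

theorem rel_GG (hS : Tabs ptOf 24 m23w_S g0 4) (hrel : ∀ i, evalW g0 (m23_rels.get i) = 1) {i : ℕ} (hi : i < 16) :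
    io (maskWord (dZ.get i)) = evalW (GG g0) (m23_rels.get i) := by
  refine SemidirectProduct.ext (funext fun y => ?_) (by rw [right_evalW, hrel]; rfl)
  obtain ⟨⟨j, hj, hy⟩, -⟩ := y.2
  have h1 := (left_evalW hS _ (rels_lt i) hj y hy).2.2
  rw [hrel, one_smul, (eB_spec hj).2.2 i hi] at h1
  rw [h1]
  show Multiplicative.ofAdd (∑ p, y.1 p * maskWord (dZ.get i) p) = _
  rw [hy, dot_maskWord]
  refine congrArg _ ?_
  rw [ZMod.natCast_eq_natCast_iff']
  omega

theorem exists_nonsplit : ∃ (E : Type) (_ : Group E) (_ : Finite E) (π : E →* Spor.M23) (κ : E → Wd → Prop),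
    Ext π κ ∧ (∀ w, ∃ m, κ m w) ∧ (∀ w, κ 1 w ↔ D0 w) ∧ ∀ H : Subgroup E, H ⊓ π.ker = ⊥ → H ⊔ π.ker ≠ ⊤ := by
  obtain ⟨g0, hS, hG⟩ := m23_gen
  let N : Subgroup WW :=
    { carrier := Set.range io
      mul_mem' := by
        rintro _ _ ⟨v, rfl⟩ ⟨w, rfl⟩
        exact ⟨_, io_add v w⟩
      one_mem' := ⟨0, io_zero⟩
      inv_mem' := by
        rintro _ ⟨w, rfl⟩
        exact ⟨w, eq_inv_of_mul_eq_one_left (by rw [← io_add, CharTwo.add_self_eq_zero, io_zero])⟩ }
  have hn : N.Normal := ⟨by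
    rintro _ ⟨w, rfl⟩ g
    exact ⟨_, io_conj g w⟩⟩
  let μ := QuotientGroup.mk' N
  let ρ : WW ⧸ N →* Spor.M23 := QuotientGroup.lift N SemidirectProduct.rightHom (by
    rintro _ ⟨w, rfl⟩
    rfl)
  have h1 : ∀ i < 16, evalW (fun x => μ (GG g0 x)) (m23_rels.get i) = 1 := fun i hi => by
    rw [← map_evalW]
    exact (QuotientGroup.eq_one_iff _).2 ⟨_, rel_GG hS hG.2.1 hi⟩
  have h2 : (genLt (fun x => μ (GG g0 x)) 4).map ρ = ⊤ := (map_genLt' ρ fun x _ => rfl).trans hG.1
  have h3 := inf_ker_of_card ρ (m23_bnd (rels16 (P := fun w => evalW (fun x => μ (GG g0 x)) w = 1) h1))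
    (by rw [h2, Subgroup.card_top, card_M23])
  let E := (genLt (fun x => μ (GG g0 x)) 4).comap μ
  let π : E →* Spor.M23 := SemidirectProduct.rightHom.comp E.subtype
  have h4 : ∀ w, io w ∈ E := fun w => by
    have : μ (io w) = 1 := (QuotientGroup.eq_one_iff _).2 ⟨w, rfl⟩
    show μ _ ∈ genLt _ 4
    rw [this]
    exact Subgroup.one_mem _
  have X : Ext π fun m w => io w = m.1 :=
    { surj := fun s => by
        obtain ⟨q, a1, a2⟩ : s ∈ (genLt (fun x => μ (GG g0 x)) 4).map ρ := h2 ▸ Subgroup.mem_top s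
        obtain ⟨a, rfl⟩ := QuotientGroup.mk'_surjective N q
        exact ⟨⟨a, a1⟩, a2⟩
      ker := fun m w h => by
        show m.1.right = 1
        rw [← h]
        rfl
      ex := fun m hm => by
        have : μ m.1 ∈ (⊥ : Subgroup (WW ⧸ N)) := h3 ▸ ⟨m.2, hm⟩
        exact (QuotientGroup.eq_one_iff _).1 this
      mul := fun m w m' w' h h' => by rw [io_add, h, h']; rfl
      one := io_zero
      zero := fun m h => Subtype.ext (h.symm.trans io_zero)
      conj := fun g m w h => (io_conj g.1 w).trans (by rw [h]; rfl) }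
  refine ⟨E, inferInstance, inferInstance, π, _, X, fun w => ⟨⟨_, h4 w⟩, rfl⟩, io_eq_one, ?_⟩
  have h5 : ∀ x, ∃ e : E, π e = g0 x ∧ (x < 4 → e.1 = GG g0 x) := fun x => by
    by_cases hx : x < 4
    · exact ⟨⟨GG g0 x, mem_genLt (fun x => μ (GG g0 x)) hx⟩, rfl, fun _ => rfl⟩
    · obtain ⟨e, he⟩ := X.surj (g0 x)
      exact ⟨e, he, fun h => absurd h hx⟩
  choose g h6 h7 using h5
  refine nonsplit_D X (fun w => (io_eq_one w).1) hS h6 fun i hi => (rel_GG hS hG.2.1 hi).trans ?_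
  exact ((map_evalW E.subtype g _).trans (evalW_congr fun x hx => h7 x (rels_lt i x hx))).symm

end Cfsg.Agent.Spor.X23
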