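import Mathlib
import Cfsg.Agent.Spor.MX.MathieuGen
import Cfsg.Agent.Spor.MX.Glue3

/-!
Extensions of `M23` by modules made from binary words on the 24 points. The values of the relators on lifts of the
letters are unknown words; a labelled partial coset enumeration over a subgroup `L` of `E × Z2` (the graph of a
character of a subgroup of `E`) gives linear equations for them.
-/

set_option autoImplicit false

namespace Cfsg.Agent.Spor.X23

open Cfsg.Agent.Spor Cfsg.Agent.Spor.Golay Cfsg.Agent.Spor.MX Finset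

/-- Binary words on the 24 points. -/
abbrev Wd := GolayPt → ZMod 2

/-- The group of order two. -/
abbrev Z2 := Multiplicative (ZMod 2)

/-- The linear form with mask `c` at the unknowns `u`. -/
def ev (u : ℕ → ZMod 2) (c : ℕ) : ZMod 2 := ∑ b ∈ range 512, if c.testBit b then u b else 0

theorem ev_xor (u : ℕ → ZMod 2) (a b : ℕ) : ev u (Nat.xor a b) = ev u a + ev u b := by
  unfold ev
  rw [← sum_add_distrib]
  refine sum_congr rfl fun i _ => ?_
  have : (Nat.xor a b).testBit i = (a.testBit i ^^ b.testBit i) := Nat.testBit_xor a b i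
  rw [this]
  cases a.testBit i <;> cases b.testBit i <;> simp [CharTwo.add_self_eq_zero]

theorem ev_zero (u : ℕ → ZMod 2) : ev u 0 = 0 := by simp [ev]

theorem ev_bit (u : ℕ → ZMod 2) {b : ℕ} (h : b < 512) : ev u (Nat.shiftLeft 1 b) = u b := by
  unfold ev
  have e : Nat.shiftLeft 1 b = 2 ^ b := by
    show 1 <<< b = _
    rw [Nat.shiftLeft_eq, one_mul]
  rw [e, sum_eq_single b]
  · simp
  · intro i _ hi
    simp [Nat.testBit_two_pow_of_ne (Ne.symm hi)]
  · intro hb
    exact absurd (mem_range.2 h) hb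

/-- The sum of the coordinates of `w` on the mask `Y`. -/
def dot (Y : ℕ) (w : Wd) : ZMod 2 := ∑ p ∈ range 24, if Y.testBit p then w (ptOf p) else 0

theorem dot_eq (Y : ℕ) (w : Wd) : dot Y w = ∑ x, maskWord Y x * w x := by
  unfold dot
  rw [← sum_pt fun p => if Y.testBit p then w (ptOf p) else 0]
  refine sum_congr rfl fun x _ => ?_
  simp [maskWord]

theorem dot_add (Y : ℕ) (v w : Wd) : dot Y (v + w) = dot Y v + dot Y w := by
  simp [dot_eq, mul_add, sum_add_distrib]

theorem dot_zero (Y : ℕ) : dot Y 0 = 0 := by simp [dot]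

theorem dot_smul (Y : ℕ) (c : ZMod 2) (w : Wd) : dot Y (c • w) = c * dot Y w := by
  rw [dot_eq, dot_eq, mul_sum]
  exact sum_congr rfl fun x _ => by simp [mul_left_comm]

theorem dot_xor (a b : ℕ) (w : Wd) : dot (a ^^^ b) w = dot a w + dot b w := by
  simp [dot_eq, maskWord_xor, add_mul, sum_add_distrib]

theorem ev_shift (u : ℕ → ZMod 2) {Y i : ℕ} (hY : Y < 2 ^ 24) (hi : i < 21) {w : Wd}
    (hu : ∀ p < 24, u (24 * i + p) = w (ptOf p)) : ev u (Nat.shiftLeft Y (Nat.mul 24 i)) = dot Y w := by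
  unfold ev dot
  have e : ∀ b, (Nat.shiftLeft Y (Nat.mul 24 i)).testBit b = (decide (24 * i ≤ b) && Y.testBit (b - 24 * i)) :=
    fun b => Nat.testBit_shiftLeft Y
  simp only [e]
  symm
  refine sum_of_injOn (fun p => 24 * i + p) (fun a _ b _ h => by simpa using h) ?_ ?_ ?_
  · intro p hp
    have := mem_range.1 hp
    exact mem_range.2 (show 24 * i + p < 512 by omega)
  · intro b _ hb
    by_cases h1 : 24 * i ≤ b
    · have h2 : 24 ≤ b - 24 * i := by
        by_contra h3
        exact hb ⟨b - 24 * i, by simp only [coe_range, Set.mem_Iio]; omega, by simp only; omega⟩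
      have : Y.testBit (b - 24 * i) = false :=
        Nat.testBit_lt_two_pow (hY.trans_le (Nat.pow_le_pow_right (by norm_num) h2))
      simp [this]
    · simp [h1]
  · intro p hp
    simp [hu p (mem_range.1 hp)]

attribute [irreducible] ev dot

/-- Bit `p` of `Y`. -/
def bitN (Y p : ℕ) : ℕ := Nat.land (Nat.shiftRight Y p) 1

theorem bitN_eq (Y p : ℕ) : bitN Y p = if Y.testBit p then 1 else 0 := by
  have : bitN Y p = Y / 2 ^ p % 2 := by
    show (Y >>> p) &&& 1 = _
    rw [Nat.and_one_is_mod, Nat.shiftRight_eq_div_pow]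
  rw [this, Nat.testBit_eq_decide_div_mod_eq]
  rcases Nat.mod_two_eq_zero_or_one (Y / 2 ^ p) with h | h <;> simp [h]

/-- The mask `Y'` is the image of the mask `Y` under the table `f`. -/
noncomputable def imgB (f : ℕ → ℕ) (Y Y' : ℕ) : Bool := allLt 24 fun p => Nat.beq (bitN Y' (f p)) (bitN Y p)

theorem maskWord_img {f : ℕ → ℕ} {a : Spor.M23} (h : Tab ptOf 24 f a) {Y Y' : ℕ} (h1 : imgB f Y Y' = true)
    (x : GolayPt) : maskWord Y' ((a : Equiv.Perm GolayPt) x) = maskWord Y x := by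
  obtain ⟨h2, h3⟩ := h _ (ptIdx_lt x)
  have h4 := (nbeq_iff _ _).1 ((allLt_iff _ _).1 h1 _ (ptIdx_lt x))
  rw [ptOf_ptIdx] at h3
  have h5 : (a : Equiv.Perm GolayPt) x = ptOf (f (ptIdx x)) := h3
  rw [bitN_eq, bitN_eq] at h4
  unfold maskWord
  rw [h5, ptIdx_ptOf h2]
  revert h4
  cases Y'.testBit (f (ptIdx x)) <;> cases Y.testBit (ptIdx x) <;> simp

theorem dot_img {f : ℕ → ℕ} {a : Spor.M23} (h : Tab ptOf 24 f a) {Y Y' : ℕ} (h1 : imgB f Y Y' = true) (w : Wd) :
    dot Y (w ∘ (a : Equiv.Perm GolayPt)) = dot Y' w := by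
  rw [dot_eq, dot_eq, ← Equiv.sum_comp (a : Equiv.Perm GolayPt) fun x => maskWord Y' x * w x]
  exact sum_congr rfl fun x _ => by rw [maskWord_img h h1]; rfl

/-- `π : E → M23` is onto, and `κ m w` says that the element `m` of its kernel is given by the word `w`. -/
structure Ext {E : Type*} [Group E] (π : E →* Spor.M23) (κ : E → Wd → Prop) : Prop where
  surj : Function.Surjective π
  ker : ∀ m w, κ m w → π m = 1
  ex : ∀ m, π m = 1 → ∃ w, κ m w
  mul : ∀ m w m' w', κ m w → κ m' w' → κ (m * m') (w + w')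
  one : κ 1 0
  zero : ∀ m, κ m 0 → m = 1
  conj : ∀ g m w, κ m w → κ (g * m * g⁻¹) (w ∘ ⇑((π g : Equiv.Perm GolayPt)⁻¹))

namespace Ext

variable {E : Type*} [Group E] {π : E →* Spor.M23} {κ : E → Wd → Prop} (X : Ext π κ)
include X

theorem sq {m : E} {w : Wd} (h : κ m w) : m * m = 1 := by
  have := X.mul _ _ _ _ h h
  rw [CharTwo.add_self_eq_zero] at this
  exact X.zero _ this

theorem inv {m : E} {w : Wd} (h : κ m w) : κ m⁻¹ w := by
  rwa [inv_eq_of_mul_eq_one_right (X.sq h)]

theorem uniq {m m' : E} {w : Wd} (h : κ m w) (h' : κ m' w) : m = m' := by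
  have := X.mul _ _ _ _ h (X.inv h')
  rw [CharTwo.add_self_eq_zero] at this
  exact mul_inv_eq_one.1 (X.zero _ this)

theorem comm {m m' : E} {w w' : Wd} (h : κ m w) (h' : κ m' w') : m * m' = m' * m :=
  X.uniq (X.mul _ _ _ _ h h') (add_comm w' w ▸ X.mul _ _ _ _ h' h)

theorem conj' (g : E) {m : E} {w : Wd} (h : κ m w) : κ (g⁻¹ * m * g) (w ∘ ⇑(π g : Equiv.Perm GolayPt)) := by
  have := X.conj g⁻¹ m w h
  simpa using this

end Ext

/-- The data of a labelled partial enumeration. -/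
structure MC where
  n : ℕ
  T : ℕ
  nd : BT
  en : BT
  subs : LT
  cl : BT
  R : BT

/-- Target of an edge. -/
def tg (e : ℕ) : ℕ := Nat.land e 4095
/-- Time of an edge. -/
def tm (e : ℕ) : ℕ := Nat.land (Nat.shiftRight e 12) 16383
/-- Word that proves an edge. -/
def ji (e : ℕ) : ℕ := Nat.land (Nat.shiftRight e 26) 63
/-- Start node that proves an edge. -/
def js (e : ℕ) : ℕ := Nat.land (Nat.shiftRight e 32) 4095
/-- Label of an edge. -/
def lb (e : ℕ) : ℕ := Nat.shiftRight e 44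

theorem ji_lt (e : ℕ) : ji e < 64 := Nat.and_lt_two_pow _ (by norm_num : 63 < 2 ^ 6)

namespace MC

variable (C : MC)

/-- The mask of a node. -/
noncomputable def Y (j : ℕ) : ℕ := Nat.land (C.nd.get j) 16777215
/-- The letter defining a node. -/
noncomputable def lt (j : ℕ) : ℕ := Nat.land (Nat.shiftRight (C.nd.get j) 24) 3
/-- The parent of a node. -/
noncomputable def par (j : ℕ) : ℕ := Nat.shiftRight (C.nd.get j) 26
/-- The edge with letter `x` at the node `j`. -/
noncomputable def e (x j : ℕ) : ℕ := C.en.get (Nat.add (Nat.shiftLeft j 2) x)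
/-- The words: relators, then words for elements of the subgroup. -/
noncomputable def W (i : ℕ) : List ℕ := Bool.rec (C.subs.get i) (m23_rels.get i) (blt i 16)
/-- The label of the word `i` at the node `s`. -/
noncomputable def rhs (i s : ℕ) : ℕ :=
  Bool.rec (Nat.shiftLeft 1 (Nat.add i 368)) (Nat.shiftLeft (C.Y s) (Nat.mul 24 i)) (blt i 16)

theorem Y_lt (j : ℕ) : C.Y j < 2 ^ 24 := Nat.and_lt_two_pow _ (by norm_num)

theorem lt_lt (j : ℕ) : C.lt j < 4 := Nat.and_lt_two_pow _ (by norm_num : 3 < 2 ^ 2)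

/-- Trace a word; edges are older than `τ`, except for one passage through the edge `(x0, j0)`. -/
noncomputable def trc (τ x0 j0 : ℕ) (w : List ℕ) (s : ℕ) : (ℕ → ℕ → ℕ → Bool) → Bool :=
  List.rec (motive := fun _ => (ℕ → ℕ → ℕ → Bool) → Bool) (fun k => k s 0 0)
    (fun x _ ih k => ih fun cur acc cnt => force (C.e x cur) fun e => force (tg e) fun c =>
      force (Nat.xor (lb e) acc) fun a =>
        Bool.rec (band (Nat.beq cnt 0) (band (Nat.beq x x0) (band (Nat.beq cur j0) (k c a 1)))) (k c a cnt)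
          (blt (tm e) τ)) w

/-- The word `i` may be traced from `s`. -/
noncomputable def okS (i s : ℕ) : Bool := band (blt s C.n) (bor (blt i 16) (Nat.beq s 0))

/-- The check of one edge. -/
noncomputable def edgeB (x j : ℕ) : Bool := force (C.e x j) fun e =>
  bor (Nat.ble C.T (tm e)) (band (blt (tg e) C.n) (force (ji e) fun i => Bool.rec
    (force (js e) fun s => band (C.okS i s) (C.trc (tm e) x j (C.W i) s fun c a cnt =>
      band (Nat.beq c s) (band (Nat.beq cnt 1) (Nat.beq a (C.rhs i s)))))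
    (band (Nat.beq (lb e) 0) (band (Nat.beq (C.lt (tg e)) x) (band (Nat.beq (C.par (tg e)) j) (blt j (tg e)))))
    (Nat.beq i 0)))

/-- The check of one node and its four edges. -/
noncomputable def nodeB (j : ℕ) : Bool :=
  band (bor (Nat.beq j 0) (force (C.par j) fun p => band (blt p j) (force (C.lt j) fun x => force (C.Y p) fun Y =>
    force (C.Y j) fun Y' => imgB (m23w_S x) Y Y'))) (allLt 4 fun x => C.edgeB x j)

/-- The check of one closing equation. -/
noncomputable def closeB (k : ℕ) : Bool := force (C.cl.get k) fun z => force (ji z) fun i => force (js z) fun s =>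
  band (C.okS i s) (C.trc C.T 4 0 (C.W i) s fun c a cnt =>
    band (Nat.beq c s) (band (Nat.beq cnt 0) (Nat.beq (Nat.xor a (C.rhs i s)) (C.R.get k))))

/-- The elements defining the nodes. -/
noncomputable def tv {E : Type*} [Group E] (g : ℕ → E) (j : ℕ) : E :=
  if _h : C.par j < j then g (C.lt j) * tv g (C.par j) else 1
termination_by j

end MC

section

variable {E : Type*} [Group E]

/-- An edge as an element of `E × Z2`. -/
def el (t : ℕ → E) (u : ℕ → ZMod 2) (k : ℕ) (a : E) (j c : ℕ) : E × Z2 :=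
  ((t k)⁻¹ * a * t j, Multiplicative.ofAdd (ev u c))

theorem el_mul (t : ℕ → E) (u : ℕ → ZMod 2) (k : ℕ) (a : E) (j c : ℕ) (b : E) (i d : ℕ) :
    el t u k a j c * el t u j b i d = el t u k (a * b) i (Nat.xor c d) := by
  unfold el
  rw [ev_xor, ofAdd_add]
  refine Prod.ext ?_ rfl
  simp [mul_assoc]

variable {C : MC} {g t : ℕ → E} {u : ℕ → ZMod 2} {L : Subgroup (E × Z2)}

/-- The edge `(x, j)` holds. -/
def Ed (C : MC) (g t : ℕ → E) (u : ℕ → ZMod 2) (L : Subgroup (E × Z2)) (x j : ℕ) : Prop :=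
  el t u (tg (C.e x j)) (g x) j (lb (C.e x j)) ∈ L

theorem trc_sound {τ x0 j0 : ℕ} (H : ∀ x < 4, ∀ j < C.n, tm (C.e x j) < τ → tg (C.e x j) < C.n ∧ Ed C g t u L x j)
    (h0 : x0 < 4 → tg (C.e x0 j0) < C.n) {s : ℕ} (hs : s < C.n) (w : List ℕ) (hw : ∀ x ∈ w, x < 4)
    (k : ℕ → ℕ → ℕ → Bool) (h : C.trc τ x0 j0 w s k = true) :
    ∃ c a cnt, c < C.n ∧ k c a cnt = true ∧ (cnt = 0 → el t u c (evalW g w) s a ∈ L) ∧
      (cnt = 1 → el t u c (evalW g w) s a ∈ L → Ed C g t u L x0 j0) := by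
  induction w generalizing k with
  | nil =>
    refine ⟨s, 0, 0, hs, h, fun _ => ?_, fun h1 => absurd h1 (by norm_num)⟩
    have : el t u s (evalW g []) s 0 = 1 := by simp [el, ev_zero]
    rw [this]
    exact L.one_mem
  | cons x w ih =>
    obtain ⟨c, a, cnt, h1, h2, h3, h4⟩ := ih (fun y hy => hw y (by simp [hy])) _ h
    have hx : x < 4 := hw x (by simp)
    simp only [force_eq] at h2
    have e1 := el_mul t u (tg (C.e x c)) (g x) c (lb (C.e x c)) (evalW g w) s a
    rw [← evalW_cons] at e1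
    cases h5 : blt (tm (C.e x c)) τ with
    | true =>
      rw [h5] at h2
      obtain ⟨h6, h7⟩ := H x hx c h1 ((blt_iff _ _).1 h5)
      refine ⟨_, _, cnt, h6, h2, fun h8 => e1 ▸ L.mul_mem h7 (h3 h8), fun h8 h9 => h4 h8 ?_⟩
      rw [← e1] at h9
      exact (L.mul_mem_cancel_left h7).1 h9
    | false =>
      rw [h5] at h2
      simp only [band_iff, nbeq_iff] at h2
      obtain ⟨h6, rfl, rfl, h7⟩ := h2
      refine ⟨_, _, 1, h0 hx, h7, fun h8 => absurd h8 (by norm_num), fun _ h9 => ?_⟩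
      rw [← e1] at h9
      exact (L.mul_mem_cancel_right (h3 h6)).1 h9

theorem edges_sound (hW : ∀ i, ∀ x ∈ C.W i, x < 4)
    (hr : ∀ i < 64, ∀ s, C.okS i s = true → el (C.tv g) u s (evalW g (C.W i)) s (C.rhs i s) ∈ L)
    (hc : ∀ x < 4, ∀ j < C.n, C.edgeB x j = true) (τ : ℕ) (hτ : τ ≤ C.T) :
    ∀ x < 4, ∀ j < C.n, tm (C.e x j) < τ → tg (C.e x j) < C.n ∧ Ed C g (C.tv g) u L x j := by
  induction τ with
  | zero => exact fun _ _ _ _ h => absurd h (Nat.not_lt_zero _)
  | succ τ ih =>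
    intro x hx j hj h1
    rcases Nat.lt_succ_iff_lt_or_eq.1 h1 with h2 | h2
    · exact ih (by omega) x hx j hj h2
    have h3 := hc x hx j hj
    unfold MC.edgeB at h3
    simp only [force_eq, bor_iff, band_iff, blt_iff, Nat.ble_eq] at h3
    rcases h3 with h3 | ⟨h3, h4⟩
    · omega
    refine ⟨h3, ?_⟩
    cases h5 : Nat.beq (ji (C.e x j)) 0 with
    | true =>
      rw [h5] at h4
      simp only [band_iff, blt_iff, nbeq_iff] at h4
      obtain ⟨h6, h7, h8, h9⟩ := h4
      have : el (C.tv g) u (tg (C.e x j)) (g x) j (lb (C.e x j)) = 1 := by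
        unfold el
        rw [h6, ev_zero, MC.tv, dif_pos (by rw [h8]; exact h9), h7, h8]
        simp
      unfold Ed
      rw [this]
      exact L.one_mem
    | false =>
      rw [h5] at h4
      simp only [band_iff] at h4
      obtain ⟨h6, h7⟩ := h4
      have h8 : js (C.e x j) < C.n := by
        unfold MC.okS at h6
        rw [band_iff, blt_iff] at h6
        exact h6.1
      rw [h2] at h7
      obtain ⟨c, a, cnt, -, a2, -, a4⟩ := trc_sound (ih (by omega)) (fun _ => h3) h8 _ (hW _) _ h7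
      simp only [band_iff, nbeq_iff] at a2
      obtain ⟨rfl, rfl, rfl⟩ := a2
      exact a4 rfl (hr _ (ji_lt _) _ h6)

theorem close_sound (hL : ∀ c, ((1 : E), c) ∈ L → c = 1) (hW : ∀ i, ∀ x ∈ C.W i, x < 4)
    (hr : ∀ i < 64, ∀ s, C.okS i s = true → el (C.tv g) u s (evalW g (C.W i)) s (C.rhs i s) ∈ L)
    (hc : ∀ x < 4, ∀ j < C.n, C.edgeB x j = true) {k : ℕ} (hk : C.closeB k = true) : ev u (C.R.get k) = 0 := by
  unfold MC.closeB at hk
  simp only [force_eq, band_iff] at hk
  obtain ⟨h6, h7⟩ := hk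
  have h8 : js (C.cl.get k) < C.n := by
    unfold MC.okS at h6
    rw [band_iff, blt_iff] at h6
    exact h6.1
  obtain ⟨c, a, cnt, -, a2, a3, -⟩ := trc_sound (edges_sound hW hr hc _ le_rfl)
    (fun h => absurd h (lt_irrefl _)) h8 _ (hW _) _ h7
  simp only [band_iff, nbeq_iff] at a2
  obtain ⟨rfl, rfl, a4⟩ := a2
  have h9 := L.mul_mem (a3 rfl) (L.inv_mem (hr _ (ji_lt _) _ h6))
  have h10 := hL (Multiplicative.ofAdd (ev u (C.R.get k))) (by
    rw [← a4, ev_xor]
    unfold el at h9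
    rw [Prod.inv_mk, Prod.mk_mul_mk, mul_inv_cancel, ← ofAdd_neg, ← ofAdd_add, CharTwo.neg_eq] at h9
    exact h9)
  exact h10

variable {π : E →* Spor.M23} {κ : E → Wd → Prop} {g0 : ℕ → Spor.M23}

theorem node_sound (X : Ext π κ) (hS : Tabs ptOf 24 m23w_S g0 4) (hg : ∀ x, π (g x) = g0 x)
    (h0 : ∀ m w, κ m w → (m, Multiplicative.ofAdd (dot (C.Y 0) w)) ∈ L) (hc : ∀ j < C.n, C.nodeB j = true)
    (j : ℕ) (hj : j < C.n) :
    ∀ m w, κ m w → ((C.tv g j)⁻¹ * m * C.tv g j, Multiplicative.ofAdd (dot (C.Y j) w)) ∈ L := by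
  induction j using Nat.strong_induction_on with
  | _ j ih =>
    intro m w hm
    have h1 := hc j hj
    unfold MC.nodeB at h1
    simp only [force_eq, bor_iff, band_iff, blt_iff, nbeq_iff] at h1
    rcases h1.1 with rfl | ⟨h2, h3⟩
    · rw [MC.tv, dif_neg (Nat.not_lt_zero _)]
      simpa using h0 m w hm
    · have h4 := ih _ h2 (by omega) _ _ (X.conj' (g (C.lt j)) hm)
      rw [hg, dot_img (hS _ (C.lt_lt j)) h3] at h4
      rw [MC.tv, dif_pos h2]
      simpa [mul_assoc] using h4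

/-- The equations for the values of the relators. -/
theorem core (X : Ext π κ) (hS : Tabs ptOf 24 m23w_S g0 4) (hrel : ∀ i, evalW g0 (m23_rels.get i) = 1)
    (hL : ∀ c, ((1 : E), c) ∈ L → c = 1)
    (h0 : ∀ m w, κ m w → (m, Multiplicative.ofAdd (dot (C.Y 0) w)) ∈ L)
    (hsub : ∀ i, ∃ e c, (e, c) ∈ L ∧ π e = evalW g0 (C.subs.get i)) (hW : C.subs.all (lettersLt 4) = true)
    (hc : ∀ j < C.n, C.nodeB j = true) :
    ∃ (g : ℕ → E) (u : ℕ → ZMod 2), (∀ x, π (g x) = g0 x) ∧
      (∀ i < 16, κ (evalW g (m23_rels.get i)) fun p => u (24 * i + ptIdx p)) ∧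
      ∀ k, C.closeB k = true → ev u (C.R.get k) = 0 := by
  choose g hg using fun x => X.surj (g0 x)
  have e1 : ∀ w, π (evalW g w) = evalW g0 w := fun w => by rw [map_evalW]; simp only [hg]
  choose w hw using fun i => X.ex (evalW g (m23_rels.get i)) (by rw [e1, hrel])
  have h1 : ∀ i, ∃ c, (evalW g (C.subs.get i), Multiplicative.ofAdd c) ∈ L := fun i => by
    obtain ⟨e, c, h1, h2⟩ := hsub i
    obtain ⟨v, hv⟩ := X.ex (e⁻¹ * evalW g (C.subs.get i)) (by rw [map_mul, map_inv, h2, e1, inv_mul_cancel])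
    exact ⟨c.toAdd + dot (C.Y 0) v, by simpa using L.mul_mem h1 (h0 _ _ hv)⟩
  choose ε hε using h1
  let u : ℕ → ZMod 2 := fun b => if b < 384 then w (b / 24) (ptOf (b % 24)) else ε (b - 368)
  have hu : ∀ i < 16, ∀ p < 24, u (24 * i + p) = w i (ptOf p) := fun i hi p hp => by
    simp only [u]
    rw [if_pos (by omega), show (24 * i + p) / 24 = i by omega, show (24 * i + p) % 24 = p by omega]
  have hW' : ∀ i, ∀ x ∈ C.W i, x < 4 := fun i => by
    unfold MC.W
    cases blt i 16
    · exact (lettersLt_iff _ _).1 (LT.all_get hW i)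
    · exact (lettersLt_iff _ _).1 (LT.all_get (t := m23_rels) (f := lettersLt 4) (by decide +kernel) i)
  refine ⟨g, u, hg, fun i hi => ?_, fun k hk => close_sound (g := g) hL hW' (fun i hi s hs => ?_) (fun x hx j hj => ?_) hk⟩
  · convert hw i using 1
    funext p
    rw [hu i hi _ (ptIdx_lt p), ptOf_ptIdx]
  · unfold MC.okS at hs
    simp only [band_iff, bor_iff, nbeq_iff] at hs
    unfold MC.W MC.rhs el
    cases h2 : blt i 16 with
    | true =>
      have h3 := (blt_iff _ _).1 h2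
      have := node_sound X hS hg h0 hc s ((blt_iff _ _).1 hs.1) _ _ (hw i)
      rwa [← ev_shift u (C.Y_lt s) (by omega : i < 21) (hu i h3)] at this
    | false =>
      rw [h2] at hs
      have h3 : ¬ i < 16 := fun h => by rw [(blt_iff _ _).2 h] at h2; exact absurd h2 (by simp)
      obtain rfl : s = 0 := hs.2.resolve_left (by simp)
      rw [MC.tv, dif_neg (Nat.not_lt_zero _)]
      have h4 : ev u (Nat.shiftLeft 1 (Nat.add i 368)) = ε i := by
        rw [Nat.add_eq, ev_bit u (show i + 368 < 512 by omega)]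
        simp only [u]
        rw [if_neg (by omega), Nat.add_sub_cancel]
      show (_, Multiplicative.ofAdd (ev u (Nat.shiftLeft 1 (Nat.add i 368)))) ∈ L
      rw [h4]
      simpa using hε i
  · have h1 := hc j hj
    unfold MC.nodeB at h1
    rw [band_iff, allLt_iff] at h1
    exact h1.2 x hx

end

end Cfsg.Agent.Spor.X23
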