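import Mathlib
import Cfsg.Agent.Spor.X23.Mono

/-!
Changing the lifts of the letters, complements, isomorphisms of extensions, and the central extension attached to
a linear form on the kernel.
-/

set_option autoImplicit false

namespace Cfsg.Agent.Spor.X23

open Cfsg.Agent.Spor Cfsg.Agent.Spor.Golay Cfsg.Agent.Spor.MX Finset

universe u v

/-- The sum of the masks `f k` over the bits `k < n` of `c`. -/
noncomputable def xorM (f : ℕ → ℕ) (c n : ℕ) : ℕ :=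
  Nat.rec 0 (fun k ih => Bool.rec (Nat.xor (f k) ih) ih (Nat.beq (bitN c k) 0)) n

theorem ev_xorM (u : ℕ → ZMod 2) (f : ℕ → ℕ) (c n : ℕ) :
    ev u (xorM f c n) = ∑ k ∈ range n, if c.testBit k then ev u (f k) else 0 := by
  induction n with
  | zero => exact ev_zero u
  | succ n ih =>
    have e : xorM f c (n + 1) = Bool.rec (Nat.xor (f n) (xorM f c n)) (xorM f c n) (Nat.beq (bitN c n) 0) := rfl
    rw [sum_range_succ, ← ih, e, bitN_eq]
    cases c.testBit n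
    · simp
    · show ev u (Nat.xor (f n) (xorM f c n)) = _
      rw [ev_xor, add_comm]
      simp

theorem ev_xorM_zero {u : ℕ → ZMod 2} {f : ℕ → ℕ} (h : ∀ k, ev u (f k) = 0) (c n : ℕ) : ev u (xorM f c n) = 0 := by
  simp [ev_xorM, h]

theorem dot_ev (u : ℕ → ZMod 2) (D : ℕ → ℕ) (Y : ℕ) :
    dot Y (fun p => ev u (D (ptIdx p))) = ev u (xorM D Y 24) := by
  rw [ev_xorM]
  unfold dot
  exact sum_congr rfl fun p hp => by simp only [ptIdx_ptOf (mem_range.1 hp)]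

/-- The closing equations and the equations of the module. -/
noncomputable def vec (R : BT) (nc : ℕ) (md : ℕ → ℕ) (k : ℕ) : ℕ :=
  Bool.rec (Nat.shiftLeft (Nat.land (md (Nat.land k 15)) 16777215) (Nat.mul 24 (Nat.land (Nat.shiftRight k 4) 15)))
    (R.get k) (blt k nc)

theorem ev_vec {u : ℕ → ZMod 2} {R : BT} {nc : ℕ} {md : ℕ → ℕ} (h1 : ∀ k < nc, ev u (R.get k) = 0)
    (h2 : ∀ i < 16, ∀ b, dot (Nat.land (md b) 16777215) (fun p => u (24 * i + ptIdx p)) = 0) (k : ℕ) :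
    ev u (vec R nc md k) = 0 := by
  unfold vec
  cases h : blt k nc with
  | true => exact h1 k ((blt_iff _ _).1 h)
  | false =>
    have h3 : Nat.land (Nat.shiftRight k 4) 15 < 16 := Nat.and_lt_two_pow _ (by norm_num : 15 < 2 ^ 4)
    refine (ev_shift u (Nat.and_lt_two_pow _ (by norm_num)) (by omega) fun p hp => ?_).trans (h2 _ h3 _)
    rw [ptIdx_ptOf hp]

/-- The change of the value of a word. -/
noncomputable def fox (A : ℕ → ℕ → ℕ) (r : List ℕ) (q : ℕ) : ℕ :=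
  List.rec 0 (fun x r ih => Nat.xor (A x (m23w_S x (traceP m23w_S r q))) ih) r

theorem rels16 {P : List ℕ → Prop} (h : ∀ i < 16, P (m23_rels.get i)) (i : ℕ) : P (m23_rels.get i) := by
  have h1 := LT.all_get (t := m23_rels) (f := fun w => !allLt 16 fun j => !beqL w (m23_rels.get j))
    (by decide +kernel) i
  by_contra hn
  have : allLt 16 (fun j => !beqL (m23_rels.get i) (m23_rels.get j)) = true := (allLt_iff _ _).2 fun j hj => by
    cases h2 : beqL (m23_rels.get i) (m23_rels.get j) with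
    | false => rfl
    | true => exact absurd (eq_of_beqL h2 ▸ h j hj) hn
  simp [this] at h1

theorem rels_lt (i : ℕ) : ∀ x ∈ m23_rels.get i, x < 4 :=
  (lettersLt_iff _ _).1 (LT.all_get (t := m23_rels) (f := lettersLt 4) (by decide +kernel) i)

theorem rels_trace (i : ℕ) : ∀ q < 24, traceP m23w_S (m23_rels.get i) q = q := fun q hq =>
  (nbeq_iff _ _).1 ((allLt_iff _ _).1 (LT.all_get (t := m23_rels)
    (f := fun w => allLt 24 fun q => Nat.beq (traceP m23w_S w q) q) (by decide +kernel) i) q hq)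

theorem inf_ker_of_card {G H : Type*} [Group G] [Group H] (ρ : G →* H) {K : Subgroup G} {N : ℕ}
    (h1 : Nat.card K ≠ 0 ∧ Nat.card K ≤ N) (h2 : N ≤ Nat.card (K.map ρ)) : K ⊓ ρ.ker = ⊥ := by
  have : Finite K := Nat.finite_of_card_ne_zero h1.1
  have h3 := (ρ.subgroupMap_surjective K).bijective_of_nat_card_le (h1.2.trans h2)
  rw [eq_bot_iff]
  rintro a ⟨h4, h5⟩
  have : (⟨a, h4⟩ : K) = 1 := h3.1 (Subtype.ext (by simpa using h5))
  exact congrArg Subtype.val this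

section

variable {E : Type u} [Group E] {π : E →* Spor.M23} {κ : E → Wd → Prop} {g0 : ℕ → Spor.M23} {g : ℕ → E}
  {u : ℕ → ZMod 2}

theorem fox_sound (X : Ext π κ) (hS : Tabs ptOf 24 m23w_S g0 4) (hg : ∀ x, π (g x) = g0 x) {n : ℕ → E}
    {A : ℕ → ℕ → ℕ} (hn : ∀ x < 4, κ (n x) fun p => ev u (A x (ptIdx p))) (r : List ℕ) (hr : ∀ x ∈ r, x < 4) :
    ∃ d, κ (evalW (fun x => n x * g x) r * (evalW g r)⁻¹) d ∧
      ∀ q < 24, d (ptOf (traceP m23w_S r q)) = ev u (fox A r q) := by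
  induction r with
  | nil => exact ⟨0, by simpa using X.one, fun q _ => (ev_zero u).symm⟩
  | cons x r ih =>
    obtain ⟨d, h1, h2⟩ := ih fun y hy => hr y (by simp [hy])
    have hx : x < 4 := hr x (by simp)
    refine ⟨_, by simpa [mul_assoc] using X.mul _ _ _ _ (hn x hx) (X.conj (g x) _ _ h1), fun q hq => ?_⟩
    have h3 := (tab_evalW (e := ptOf) (n := 24) (T := m23w_S) (g := g0) (w := r)
      fun y hy => hS y (hr y (by simp [hy]))) q hq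
    obtain ⟨h4, h5⟩ := hS x hx _ h3.1
    have h6 : (g0 x : Equiv.Perm GolayPt) (ptOf (traceP m23w_S r q)) = ptOf (m23w_S x (traceP m23w_S r q)) := h5
    have e : fox A (x :: r) q = Nat.xor (A x (m23w_S x (traceP m23w_S r q))) (fox A r q) := rfl
    have e' : traceP m23w_S (x :: r) q = m23w_S x (traceP m23w_S r q) := rfl
    rw [e, e', ev_xor, ← h2 q hq, Pi.add_apply, ptIdx_ptOf h4, ← h6, hg]
    simp

theorem fox_rel (X : Ext π κ) (hS : Tabs ptOf 24 m23w_S g0 4) (hg : ∀ x, π (g x) = g0 x) {n : ℕ → E}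
    {A : ℕ → ℕ → ℕ} (hn : ∀ x < 4, κ (n x) fun p => ev u (A x (ptIdx p))) (i : ℕ) {B : ℕ → ℕ}
    (hB : κ (evalW g (m23_rels.get i)) fun p => ev u (B (ptIdx p))) :
    κ (evalW (fun x => n x * g x) (m23_rels.get i))
      fun p => ev u (Nat.xor (fox A (m23_rels.get i) (ptIdx p)) (B (ptIdx p))) := by
  obtain ⟨d, h1, h2⟩ := fox_sound X hS hg hn _ (rels_lt i)
  have h3 := X.mul _ _ _ _ h1 hB
  rw [inv_mul_cancel_right] at h3
  convert h3 using 1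
  funext p
  have h4 := h2 _ (ptIdx_lt p)
  rw [rels_trace i _ (ptIdx_lt p), ptOf_ptIdx] at h4
  rw [ev_xor, Pi.add_apply, h4]

theorem compl_of_rels (hG : genLt g0 4 = ⊤) (hg : ∀ x < 4, π (g x) = g0 x)
    (h : ∀ i < 16, evalW g (m23_rels.get i) = 1) : ∃ H : Subgroup E, H ⊓ π.ker = ⊥ ∧ H ⊔ π.ker = ⊤ := by
  have h1 : (genLt g 4).map π = ⊤ := (map_genLt' π hg).trans hG
  refine ⟨genLt g 4, inf_ker_of_card π (m23_bnd (rels16 (P := fun w => evalW g w = 1) h))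
    (by rw [h1, Subgroup.card_top, card_M23]), ?_⟩
  rw [← Subgroup.comap_map_eq, h1, Subgroup.comap_top]

theorem half_iso {E' : Type v} [Group E'] {π' : E' →* Spor.M23} {κ' : E' → Wd → Prop} (X : Ext π κ) (X' : Ext π' κ')
    (h2 : ∀ w, ∃ m, κ' m w) (h3 : ∀ w, κ 1 w → κ' 1 w) {K : Type*} [Group K] {f : K →* E} {f' : K →* E'}
    (a1 : ∀ k, f k = 1 → f' k = 1 → k = 1) (a2 : ∀ k, π (f k) = 1 → ∃ w, κ (f k) w ∧ κ' (f' k) w)
    (a3 : ∀ m m' w, κ m w → κ' m' w → ∃ k, f k = m ∧ f' k = m') (a4 : ∀ s, ∃ k, π (f k) = s) :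
    Function.Bijective f := by
  refine ⟨(injective_iff_map_eq_one f).2 fun k hk => a1 k hk ?_, fun e => ?_⟩
  · obtain ⟨w, b1, b2⟩ := a2 k (by rw [hk, map_one])
    exact X'.uniq b2 (h3 w (hk ▸ b1))
  · obtain ⟨k, hk⟩ := a4 (π e)
    obtain ⟨w, hw⟩ := X.ex ((f k)⁻¹ * e) (by rw [map_mul, map_inv, hk, inv_mul_cancel])
    obtain ⟨m', hm'⟩ := h2 w
    obtain ⟨k', b1, -⟩ := a3 _ _ _ hw hm'
    exact ⟨k * k', by rw [map_mul, b1, mul_inv_cancel_left]⟩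

theorem iso_of_rels {E' : Type v} [Group E'] {π' : E' →* Spor.M23} {κ' : E' → Wd → Prop} (X : Ext π κ)
    (X' : Ext π' κ') (h1 : ∀ w, ∃ m, κ m w) (h2 : ∀ w, ∃ m, κ' m w) (h3 : ∀ w, κ 1 w ↔ κ' 1 w)
    (hG : genLt g0 4 = ⊤) {g' : ℕ → E'} (hg : ∀ x, π (g x) = g0 x) (hg' : ∀ x, π' (g' x) = g0 x) {z : ℕ → Wd}
    (h : ∀ i < 16, κ (evalW g (m23_rels.get i)) (z i)) (h' : ∀ i < 16, κ' (evalW g' (m23_rels.get i)) (z i)) :
    Nonempty (E ≃* E') := by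
  let D : Subgroup (E × E') := (π.comp (MonoidHom.fst E E')).eqLocus (π'.comp (MonoidHom.snd E E'))
  let Δ : Subgroup D :=
    { carrier := {a | ∃ w, κ a.1.1 w ∧ κ' a.1.2 w}
      mul_mem' := fun ⟨w, a1, a2⟩ ⟨w', b1, b2⟩ => ⟨_, X.mul _ _ _ _ a1 b1, X'.mul _ _ _ _ a2 b2⟩
      one_mem' := ⟨0, X.one, X'.one⟩
      inv_mem' := fun ⟨w, a1, a2⟩ => ⟨w, X.inv a1, X'.inv a2⟩ }
  have hn : Δ.Normal := ⟨fun a ⟨w, a1, a2⟩ b => ⟨_, X.conj b.1.1 _ _ a1, by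
    have h4 : π b.1.1 = π' b.1.2 := b.2
    rw [h4]
    exact X'.conj b.1.2 _ _ a2⟩⟩
  let f1 : D →* E := (MonoidHom.fst E E').comp D.subtype
  let f2 : D →* E' := (MonoidHom.snd E E').comp D.subtype
  let ρ : D ⧸ Δ →* Spor.M23 := QuotientGroup.lift Δ (π.comp f1) fun a ⟨w, a1, _⟩ => X.ker _ _ a1
  let k : ℕ → D := fun x => ⟨(g x, g' x), (hg x).trans (hg' x).symm⟩
  let μ := QuotientGroup.mk' Δ
  have b1 : ∀ i < 16, evalW (fun x => μ (k x)) (m23_rels.get i) = 1 := fun i hi => by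
    rw [← map_evalW]
    refine (QuotientGroup.eq_one_iff _).2 ⟨z i, ?_, ?_⟩
    · show κ (f1 _) _
      rw [map_evalW]
      exact h i hi
    · show κ' (f2 _) _
      rw [map_evalW]
      exact h' i hi
  have b2 : (genLt (fun x => μ (k x)) 4).map ρ = ⊤ := (map_genLt' ρ fun x _ => hg x).trans hG
  have b3 := inf_ker_of_card ρ (m23_bnd (rels16 (P := fun w => evalW (fun x => μ (k x)) w = 1) b1))
    (by rw [b2, Subgroup.card_top, card_M23])
  let K := (genLt (fun x => μ (k x)) 4).comap μ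
  have c1 : ∀ a : K, π (f1 a) = 1 → ∃ w, κ (f1 a) w ∧ κ' (f2 a) w := fun a ha => by
    have : μ a ∈ (⊥ : Subgroup (D ⧸ Δ)) := b3 ▸ ⟨a.2, ha⟩
    exact (QuotientGroup.eq_one_iff _).1 this
  have c2 : ∀ m m' w, κ m w → κ' m' w → ∃ a : K, f1 a = m ∧ f2 a = m' := fun m m' w a1 a2 => by
    refine ⟨⟨⟨(m, m'), (X.ker _ _ a1).trans (X'.ker _ _ a2).symm⟩, ?_⟩, rfl, rfl⟩
    have : μ ⟨(m, m'), (X.ker _ _ a1).trans (X'.ker _ _ a2).symm⟩ = 1 := (QuotientGroup.eq_one_iff _).2 ⟨w, a1, a2⟩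
    rw [Subgroup.mem_comap, this]
    exact Subgroup.one_mem _
  have c3 : ∀ s, ∃ a : K, π (f1 a) = s := fun s => by
    obtain ⟨q, a1, a2⟩ : s ∈ (genLt (fun x => μ (k x)) 4).map ρ := b2 ▸ Subgroup.mem_top s
    obtain ⟨a, rfl⟩ := QuotientGroup.mk'_surjective Δ q
    exact ⟨⟨a, a1⟩, a2⟩
  have c4 : ∀ a : K, π' (f2 a) = π (f1 a) := fun a => a.1.2.symm
  have c5 : ∀ a : K, f1 a = 1 → f2 a = 1 → a = 1 := fun a a1 a2 => Subtype.ext (Subtype.ext (Prod.ext a1 a2))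
  have d1 := half_iso X X' h2 (fun w => (h3 w).1) (f := f1.comp K.subtype) (f' := f2.comp K.subtype) c5 c1 c2 c3
  have d2 := half_iso X' X h1 (fun w => (h3 w).2) (f := f2.comp K.subtype) (f' := f1.comp K.subtype)
    (fun a a1 a2 => c5 a a2 a1) (fun a ha => (c1 a ((c4 a).symm.trans ha)).imp fun _ => And.symm)
    (fun m m' w a1 a2 => (c2 m' m w a2 a1).imp fun _ => And.symm) fun s => (c3 s).imp fun a ha => (c4 a).trans ha
  exact ⟨(MulEquiv.ofBijective _ d1).symm.trans (MulEquiv.ofBijective _ d2)⟩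

/-- The stabiliser of a linear form. -/
def stabY (y : ℕ) : Subgroup Spor.M23 where
  carrier := {s | ∀ w : Wd, dot y (w ∘ (s : Equiv.Perm GolayPt)) = dot y w}
  mul_mem' := fun {a b} ha hb w => (hb (w ∘ (a : Equiv.Perm GolayPt))).trans (ha w)
  one_mem' := fun _ => rfl
  inv_mem' := fun {a} ha w => by
    rw [← ha]
    congr 1
    funext x
    simp

theorem mem_stabY {f : ℕ → ℕ} {a : Spor.M23} (h : Tab ptOf 24 f a) {y : ℕ} (h1 : imgB f y y = true) : a ∈ stabY y :=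
  dot_img h h1

theorem exists_central (X : Ext π κ) {y : ℕ} (hy : ∀ w, κ 1 w → dot y w = 0) :
    ∃ (Q : Type u) (_ : Group Q) (ρ : Q →* Spor.M23), stabY y ≤ ρ.range ∧ ρ.ker ≤ Subgroup.center Q ∧
      (∀ z ∈ ρ.ker, z ^ 2 = 1) ∧
      (∀ q, ρ q * ρ q = 1 → (∀ e w, π e = ρ q → κ (e * e) w → dot y w = 0) → q * q = 1) ∧
      ∀ K : Subgroup Q, K ⊓ ρ.ker = ⊥ → ∃ L : Subgroup (E × Z2), (∀ c, ((1 : E), c) ∈ L → c = 1) ∧
        (∀ m w, κ m w → (m, Multiplicative.ofAdd (dot y w)) ∈ L) ∧ ∀ k ∈ K, ∃ e c, (e, c) ∈ L ∧ π e = ρ k := by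
  let A : Subgroup (E × Z2) := (stabY y).comap (π.comp (MonoidHom.fst E Z2))
  let Δ : Subgroup A :=
    { carrier := {a | ∃ w, κ a.1.1 w ∧ a.1.2 = Multiplicative.ofAdd (dot y w)}
      mul_mem' := fun {a b} ⟨w, a1, a2⟩ ⟨w', b1, b2⟩ => ⟨_, X.mul _ _ _ _ a1 b1, by
        rw [dot_add, ofAdd_add, ← a2, ← b2]; rfl⟩
      one_mem' := ⟨0, X.one, by rw [dot_zero]; rfl⟩
      inv_mem' := fun {a} ⟨w, a1, a2⟩ => ⟨w, X.inv a1, by
        show a.1.2⁻¹ = _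
        rw [a2, ← ofAdd_neg, CharTwo.neg_eq]⟩ }
  have hn : Δ.Normal := ⟨fun a ⟨w, a1, a2⟩ b => ⟨_, X.conj b.1.1 _ _ a1, by
    have h4 : (π b.1.1)⁻¹ ∈ stabY y := (stabY y).inv_mem b.2
    have h5 : dot y (w ∘ ⇑((π b.1.1 : Equiv.Perm GolayPt)⁻¹)) = dot y w := h4 w
    rw [h5, ← a2]
    show b.1.2 * a.1.2 * b.1.2⁻¹ = _
    rw [mul_comm b.1.2, mul_inv_cancel_right]⟩⟩
  let f1 : A →* E := (MonoidHom.fst E Z2).comp A.subtype
  let ρ : A ⧸ Δ →* Spor.M23 := QuotientGroup.lift Δ (π.comp f1) fun a ⟨w, a1, _⟩ => X.ker _ _ a1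
  let μ := QuotientGroup.mk' Δ
  have m1 : ∀ m c, π m = 1 → (m, c) ∈ A := fun m c hm => by
    show π m ∈ stabY y
    rw [hm]
    exact Subgroup.one_mem _
  have sq : ∀ c : Z2, c * c = 1 := by decide
  have b1 : ∀ z ∈ ρ.ker, ∃ c, z = μ ⟨(1, c), m1 _ _ (map_one π)⟩ := fun z hz => by
    obtain ⟨a, rfl⟩ := QuotientGroup.mk'_surjective Δ z
    have h1 : π a.1.1 = 1 := hz
    obtain ⟨w, hw⟩ := X.ex _ h1
    refine ⟨a.1.2 * Multiplicative.ofAdd (dot y w), QuotientGroup.eq.2 ⟨w, ?_, ?_⟩⟩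
    · simpa using X.inv hw
    · simp
  refine ⟨A ⧸ Δ, inferInstance, ρ, fun s hs => ?_, fun z hz => ?_, fun z hz => ?_, fun q h1 h2 => ?_,
    fun K hK => ⟨(K.comap μ).map A.subtype, ?_, fun m w hm => ?_, fun k hk => ?_⟩⟩
  · obtain ⟨e, rfl⟩ := X.surj s
    exact ⟨μ ⟨(e, 1), hs⟩, rfl⟩
  · obtain ⟨c, rfl⟩ := b1 z hz
    refine Subgroup.mem_center_iff.2 fun q => ?_
    obtain ⟨a, rfl⟩ := QuotientGroup.mk'_surjective Δ q
    rw [← map_mul, ← map_mul]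
    congr 1
    exact Subtype.ext (Prod.ext (by simp) (mul_comm _ _))
  · obtain ⟨c, rfl⟩ := b1 z hz
    rw [pow_two, ← map_mul, ← map_one μ]
    congr 1
    exact Subtype.ext (Prod.ext (by simp) (sq c))
  · obtain ⟨a, rfl⟩ := QuotientGroup.mk'_surjective Δ q
    obtain ⟨w, hw⟩ := X.ex (a.1.1 * a.1.1) ((map_mul π _ _).trans h1)
    rw [← map_mul]
    refine (QuotientGroup.eq_one_iff _).2 ⟨w, hw, ?_⟩
    rw [h2 _ w rfl hw]
    exact sq _
  · rintro c ⟨a, a1, a2⟩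
    have a3 : a.1.1 = 1 := congrArg Prod.fst a2
    have a4 : a.1.2 = c := congrArg Prod.snd a2
    have a5 : μ a ∈ (⊥ : Subgroup (A ⧸ Δ)) := hK ▸ ⟨a1, by
      show π a.1.1 = 1
      rw [a3, map_one]⟩
    obtain ⟨w, a6, a7⟩ := (QuotientGroup.eq_one_iff _).1 a5
    rw [← a4, a7, hy w (a3 ▸ a6)]
    rfl
  · refine ⟨⟨_, m1 _ _ (X.ker _ _ hm)⟩, ?_, rfl⟩
    have : μ ⟨(m, Multiplicative.ofAdd (dot y w)), m1 _ _ (X.ker _ _ hm)⟩ = 1 :=
      (QuotientGroup.eq_one_iff _).2 ⟨w, hm, rfl⟩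
    show μ _ ∈ K
    rw [this]
    exact K.one_mem
  · obtain ⟨a, rfl⟩ := QuotientGroup.mk'_surjective Δ k
    exact ⟨a.1.1, a.1.2, ⟨a, hk, rfl⟩, rfl⟩

end

end Cfsg.Agent.Spor.X23
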